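import Groth.Agent.KSModLib.AbsSplit
import Groth.Agent.ModDescLib.Main
import Groth.Agent.ConsLib.FGSystem

/-! Galois invariant bundles over a separable closure. -/

set_option autoImplicit false
set_option linter.style.haveILetI false
universe u

noncomputable section

open CategoryTheory CategoryTheory.Limits AlgebraicGeometry TopologicalSpace Opposite
open GLinBCLib KFlatLib
open W4c1astiltbs12 (galAct bcMod pow)

namespace KSMod

attribute [local instance] Abelian.hasFiniteBiproducts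

section flat

variable {k K : Type u} [Field k] [Field K] [Algebra k K] {X Y : Scheme.{u}} (β : BC k K X Y)

/-- Local freeness descends along an extension of the base field. -/
theorem isFinLocFree_of_pb [IsLocallyNoetherian X] {M : X.Modules} (hM : Coh.IsCoh M)
    (h : FlatMod.IsFinLocFree (pb β.g M)) : FlatMod.IsFinLocFree M := by
  classical
  haveI := hM.1
  refine StratLib.isFinLocFree_of_flat_sections M hM.2 fun y => ?_
  obtain ⟨V, hV, hy, -⟩ := exists_isAffineOpen_mem_and_subset (show y ∈ (⊤ : X.Opens) from trivial)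
  refine ⟨V, hV, hy, ?_⟩
  let e := Module.Free.chooseBasis k K
  letI : Algebra Γ(X, V) Γ(Y, β.g ⁻¹ᵁ V) := (β.g.app V).hom.toAlgebra
  haveI := β.flat_g
  haveI := β.isAffineHom_g
  have hflat : (β.g.app V).hom.Flat := by
    have := Flat.flat_appLE β.g hV (hV.preimage β.g) le_rfl
    rwa [← Scheme.Hom.app_eq_appLE] at this
  haveI : Module.Flat Γ(X, V) Γ(Y, β.g ⁻¹ᵁ V) := hflat
  letI : Module Γ(X, V) Γ(pb β.g M, β.g ⁻¹ᵁ V) := Module.compHom _ (β.g.app V).hom
  haveI : IsScalarTower Γ(X, V) Γ(Y, β.g ⁻¹ᵁ V) Γ(pb β.g M, β.g ⁻¹ᵁ V) :=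
    IsScalarTower.of_algebraMap_smul fun _ _ => rfl
  haveI := CohBCLib.flat_sections_of_isFinLocFree (pb β.g M) h (hV.preimage β.g)
  haveI : Module.Flat Γ(X, V) Γ(pb β.g M, β.g ⁻¹ᵁ V) :=
    Module.Flat.trans Γ(X, V) Γ(Y, β.g ⁻¹ᵁ V) Γ(pb β.g M, β.g ⁻¹ᵁ V)
  let T : (Module.Free.ChooseBasisIndex k K →₀ Γ(M, V)) →ₗ[Γ(X, V)] Γ(pb β.g M, β.g ⁻¹ᵁ V) :=
    { toFun := combM β e M V
      map_add' := combM_add β e M V
      map_smul' := fun r b => combM_smul β e M V r b }
  let T' := LinearEquiv.ofBijective T (combM_bijective β e M hV)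
  haveI : Module.Flat Γ(X, V) (Module.Free.ChooseBasisIndex k K →₀ Γ(M, V)) := Module.Flat.of_linearEquiv T'
  obtain ⟨i⟩ : Nonempty (Module.Free.ChooseBasisIndex k K) := e.index_nonempty
  exact Module.Flat.of_retract (Finsupp.lsingle i) (Finsupp.lapply i) (by ext m; simp)

end flat

section fields

variable {k : Type u} [Field k] {X : Scheme.{u}} {p : X ⟶ Spec (CommRingCat.of k)} {n : ℕ}
  {F : Type u} [Field F] [Algebra k F] {K : Type u} [Field K] [Algebra k K] [Algebra F K] [IsScalarTower k F K]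

/-- `X_K` is the base change of `X_F`. -/
def bcUpSq : BC F K (BrSev.bc p F) (BrSev.bc p K) where
  g := bcUp p F K
  iX := BrSev.bcTo p F
  iY := BrSev.bcTo p K
  sq := by
    refine IsPullback.of_right (t := IsPullback.of_hasPullback _ _) ?_ (pullback.lift_snd _ _ _)
    rw [show bcUp p F K ≫ pullback.fst _ _ = BrSev.proj p K from pullback.lift_fst _ _ _,
      ← Spec.map_comp, ← CommRingCat.ofHom_comp, ← IsScalarTower.algebraMap_eq]
    exact IsPullback.of_hasPullback _ _

theorem bcUp_fst : bcUp p F K ≫ BrSev.proj p F = BrSev.proj p K := pullback.lift_fst _ _ _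

theorem bcUp_snd :
    bcUp p F K ≫ BrSev.bcTo p F = BrSev.bcTo p K ≫ Spec.map (CommRingCat.ofHom (algebraMap F K)) :=
  pullback.lift_snd _ _ _

theorem bcUp_galAct [Normal k K] (σ : F ≃ₐ[k] F) :
    bcUp p F K ≫ galAct p F σ = galAct p K (σ.liftNormal K) ≫ bcUp p F K := by
  have b1 : galAct p F σ ≫ BrSev.proj p F = BrSev.proj p F := galAct_fst p F σ
  have b2 : galAct p F σ ≫ BrSev.bcTo p F = BrSev.bcTo p F ≫ Spec.map (CommRingCat.ofHom (σ : F →+* F)) :=
    galAct_snd p F σ
  have c1 : galAct p K (σ.liftNormal K) ≫ BrSev.proj p K = BrSev.proj p K := galAct_fst p K _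
  have c2 : galAct p K (σ.liftNormal K) ≫ BrSev.bcTo p K =
      BrSev.bcTo p K ≫ Spec.map (CommRingCat.ofHom (σ.liftNormal K : K →+* K)) := galAct_snd p K _
  refine pullback.hom_ext ?_ ?_
  · calc (bcUp p F K ≫ galAct p F σ) ≫ BrSev.proj p F = bcUp p F K ≫ galAct p F σ ≫ BrSev.proj p F := Category.assoc _ _ _
      _ = BrSev.proj p K := by rw [b1, bcUp_fst]
      _ = galAct p K (σ.liftNormal K) ≫ bcUp p F K ≫ BrSev.proj p F := by rw [bcUp_fst, c1]
      _ = _ := (Category.assoc _ _ _).symm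
  · calc (bcUp p F K ≫ galAct p F σ) ≫ BrSev.bcTo p F = bcUp p F K ≫ galAct p F σ ≫ BrSev.bcTo p F := Category.assoc _ _ _
      _ = BrSev.bcTo p K ≫ Spec.map (CommRingCat.ofHom (algebraMap F K)) ≫ Spec.map (CommRingCat.ofHom (σ : F →+* F)) := by
        rw [b2, ← Category.assoc, bcUp_snd, Category.assoc]
      _ = galAct p K (σ.liftNormal K) ≫ bcUp p F K ≫ BrSev.bcTo p F := by
        rw [bcUp_snd, ← Category.assoc (galAct p K _), c2, Category.assoc, ← Spec.map_comp, ← Spec.map_comp,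
          ← CommRingCat.ofHom_comp, ← CommRingCat.ofHom_comp]
        congr 3
        exact RingHom.ext fun x => (σ.liftNormal_commutes K x).symm
      _ = _ := (Category.assoc _ _ _).symm

end fields

section descent

variable {k : Type u} [Field k] {X : Scheme.{u}} (p : X ⟶ Spec (CommRingCat.of k)) [IsProper p]
  (K : Type u) [Field K] [Algebra k K] [Algebra.IsAlgebraic k K]

/-- A bundle over an algebraic extension is defined over a finite subextension. -/
theorem exists_descend_finite {W : (BrSev.bc p K).Modules} (hW : FlatMod.IsFinLocFree W) :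
    ∃ (F : IntermediateField k K) (_ : FiniteDimensional k F) (N : (BrSev.bc p F).Modules),
      Coh.IsCoh N ∧ Nonempty (pb (bcUp p F K) N ≅ W) := by
  let A := ConsLib.fgSys k K (Iso.refl (Spec (CommRingCat.of k)))
  let B := RichLib.LimBC.pb A p
  haveI : ∀ i j (b : i ⟶ j), IsAffineHom (B.D.map b) := fun _ _ b => B.affine_map b
  haveI : ∀ i, IsNoetherian (B.D.obj i) := fun i => by
    haveI := ConsLib.locallyOfFiniteType_fgSys_t k K (Iso.refl (Spec (CommRingCat.of k))) i
    haveI := A.affine i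
    show IsNoetherian (pullback p (A.t i))
    haveI := LocallyOfFiniteType.isLocallyNoetherian (pullback.fst p (A.t i) ≫ p)
    haveI := QuasiCompact.compactSpace_of_compactSpace (pullback.fst p (A.t i) ≫ p)
    exact {}
  have es : pullback p A.s ≅ BrSev.bc p K := pullback.congrHom rfl (Category.comp_id _)
  haveI hWc : Coh.IsQCoh W := (Groth.Agent.PerfLib.isCoh_of_isFinLocFree hW).1
  haveI : IsProper (BrSev.bcTo p K) := MorphismProperty.pullback_snd _ _ ‹IsProper p›
  haveI : IsLocallyNoetherian (BrSev.bc p K) := LocallyOfFiniteType.isLocallyNoetherian (BrSev.bcTo p K)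
  let e0 : BrSev.bc p K ≅ B.c.pt := (pullback.congrHom rfl (Category.comp_id _)).symm
  let c' : Cone B.D := B.c.extend e0.hom
  have hc' : IsLimit c' := B.hc.ofIsoLimit (Cone.ext e0.symm (fun φ => by simp [c', Cone.extend]))
  obtain ⟨i, G, hG, ⟨eG⟩⟩ := ModDescLib.exists_coh_pullback (c := c') hc' W
    fun y => FlatLib.exists_presentation_nhd
      (QCohLib.isFP_of_isCoh W (Groth.Agent.PerfLib.isCoh_of_isFinLocFree hW)) y
  let F : IntermediateField k K := i.unop.1.toIntermediateField' (Subalgebra.isField_of_algebraic _)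
  haveI hfin : FiniteDimensional k F := by
    haveI : Algebra.FiniteType k i.unop.1 := ⟨(Subalgebra.fg_top _).mpr i.unop.2⟩
    haveI : Algebra.IsAlgebraic k i.unop.1 := Algebra.IsAlgebraic.of_injective i.unop.1.val Subtype.val_injective
    haveI : Algebra.IsIntegral k i.unop.1 := Algebra.IsAlgebraic.isIntegral
    exact (Algebra.IsIntegral.finite : Module.Finite k i.unop.1)
  let τ : BrSev.bc p F ≅ pullback p (A.t i) :=
    pullback.congrHom rfl (show Spec.map (CommRingCat.ofHom (algebraMap k F)) = A.t i from (Category.comp_id _).symm)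
  have t1 : τ.hom ≫ pullback.fst p (A.t i) = BrSev.proj p F :=
    (pullback.lift_fst _ _ _).trans (Category.comp_id _)
  have t2 : τ.hom ≫ pullback.snd p (A.t i) = BrSev.bcTo p F :=
    (pullback.lift_snd _ _ _).trans (Category.comp_id _)
  have u1 : e0.hom ≫ pullback.fst p A.s = BrSev.proj p K := by
    show (pullback.congrHom rfl (Category.comp_id _)).inv ≫ _ = _
    rw [Iso.inv_comp_eq]; exact ((pullback.lift_fst _ _ _).trans (Category.comp_id _)).symm
  have u2 : e0.hom ≫ pullback.snd p A.s = BrSev.bcTo p K := by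
    show (pullback.congrHom rfl (Category.comp_id _)).inv ≫ _ = _
    rw [Iso.inv_comp_eq]; exact ((pullback.lift_snd _ _ _).trans (Category.comp_id _)).symm
  have hτ : bcUp p F K ≫ τ.hom = c'.π.app i := by
    show bcUp p F K ≫ τ.hom = e0.hom ≫ RichLib.LimBC.pbπ A p i
    refine pullback.hom_ext ?_ ?_
    · rw [Category.assoc, Category.assoc, t1]
      exact bcUp_fst.trans (u1.symm.trans (congrArg (e0.hom ≫ ·) (RichLib.LimBC.pbπ_fst A p i).symm))
    · rw [Category.assoc, Category.assoc, t2]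
      refine bcUp_snd.trans (Eq.trans ?_ (congrArg (e0.hom ≫ ·) (RichLib.LimBC.pbπ_snd A p i).symm))
      exact ((Category.assoc _ _ _).symm.trans (congrArg (· ≫ A.c.π.app i) u2)).symm
  exact ⟨F, hfin, pb τ.hom G, ConsLib.isCoh_pullback τ.hom hG,
    ⟨(Scheme.Modules.pullbackComp (bcUp p F K) τ.hom).app G ≪≫ (Scheme.Modules.pullbackCongr hτ).app G ≪≫ eG⟩⟩

variable [IsGalois k K]

/-- A Galois invariant bundle is, up to multiplicity, defined over the base field. -/
theorem exists_isotypical_of_invariant {W : (BrSev.bc p K).Modules} (hW : FlatMod.IsFinLocFree W)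
    (hinv : ∀ σ : K ≃ₐ[k] K, Nonempty ((Scheme.Modules.pullback (galAct p K σ)).obj W ≅ W)) :
    ∃ (d : ℕ) (M : X.Modules), 0 < d ∧ FlatMod.IsFinLocFree M ∧ Nonempty (bcMod p K M ≅ pow W d) := by
  obtain ⟨F₀, hfin, N₀, hN₀, ⟨e₀⟩⟩ := exists_descend_finite p K hW
  haveI := hfin
  let L : IntermediateField k K := IntermediateField.normalClosure k F₀ K
  haveI : Algebra.IsSeparable k F₀ := Algebra.isSeparable_tower_bot_of_isSeparable k F₀ K
  haveI : FiniteDimensional k L := normalClosure.is_finiteDimensional k F₀ K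
  haveI : IsGalois k L := IsGalois.normalClosure k F₀ K
  have hle : F₀ ≤ L := IntermediateField.le_normalClosure F₀
  letI : Algebra F₀ L := (IntermediateField.inclusion hle).toRingHom.toAlgebra
  haveI : IsScalarTower k F₀ L := IsScalarTower.of_algebraMap_eq fun x => rfl
  haveI : IsScalarTower F₀ L K := IsScalarTower.of_algebraMap_eq fun x => rfl
  let N := pb (bcUp p F₀ L) N₀
  have hup : bcUp p L K ≫ bcUp p F₀ L = bcUp p F₀ K := by
    refine pullback.hom_ext ?_ ?_
    · exact ((Category.assoc _ _ _).trans ((congrArg (bcUp p L K ≫ ·) bcUp_fst).trans bcUp_fst)).trans bcUp_fst.symm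
    · refine ((Category.assoc _ _ _).trans (congrArg (bcUp p L K ≫ ·) bcUp_snd)).trans ?_
      rw [← Category.assoc, bcUp_snd, Category.assoc, ← Spec.map_comp, ← CommRingCat.ofHom_comp, ← IsScalarTower.algebraMap_eq]
      exact bcUp_snd.symm
  let e : pb (bcUp p L K) N ≅ W :=
    (Scheme.Modules.pullbackComp _ _).app N₀ ≪≫ (Scheme.Modules.pullbackCongr hup).app N₀ ≪≫ e₀
  haveI : IsProper (BrSev.bcTo p L) := MorphismProperty.pullback_snd _ _ ‹IsProper p›
  haveI : IsLocallyNoetherian (BrSev.bc p L) := LocallyOfFiniteType.isLocallyNoetherian (BrSev.bcTo p L)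
  have hNc : Coh.IsCoh N := ConsLib.isCoh_pullback _ hN₀
  have hN : FlatMod.IsFinLocFree N :=
    isFinLocFree_of_pb (bcUpSq (p := p) (F := L) (K := K)) hNc
      (Groth.Agent.PerfLib.isFinLocFree_of_iso e.symm hW)
  letI : (BrSev.bc p L).Over (Spec (CommRingCat.of L)) := ⟨BrSev.bcTo p L⟩
  haveI : IsProper (BrSev.bc p L ↘ Spec (CommRingCat.of L)) := ‹IsProper (BrSev.bcTo p L)›
  letI : (BrSev.bc p K).Over (Spec (CommRingCat.of K)) := ⟨BrSev.bcTo p K⟩
  haveI : IsProper (BrSev.bc p K ↘ Spec (CommRingCat.of K)) :=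
    inferInstanceAs (IsProper (pullback.snd p (Spec.map (CommRingCat.ofHom (algebraMap k K)))))
  have hgal : ∀ σ : L ≃ₐ[k] L, Nonempty (pb (galAct p L σ) N ≅ N) := fun σ =>
    noetherDeuring (bcUpSq (p := p) (F := L) (K := K)) (ConsLib.isCoh_pullback _ hNc) hNc
      ((Scheme.Modules.pullbackComp (bcUp p L K) (galAct p L σ)).app N ≪≫
        (Scheme.Modules.pullbackCongr (bcUp_galAct σ)).app N ≪≫
        ((Scheme.Modules.pullbackComp _ _).app N).symm ≪≫
        (Scheme.Modules.pullback (galAct p K (σ.liftNormal K))).mapIso e ≪≫ (hinv _).some ≪≫ e.symm)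
  obtain ⟨σ, ⟨t⟩⟩ := nonempty_pb_push p L N hNc.1
  have hs : ∀ a, Nonempty ((Scheme.Modules.pushforward (galAct p L (σ a))).obj N ≅ N) := fun a => by
    let g := galAct p L (σ a)
    obtain ⟨t₀⟩ := hgal (σ a)
    exact ⟨(pushIso g).app N ≪≫ (Scheme.Modules.pullback (inv g)).mapIso t₀.symm ≪≫
      (Scheme.Modules.pullbackComp (inv g) g).app N ≪≫
      (Scheme.Modules.pullbackCongr (IsIso.inv_hom_id g)).app N ≪≫ (Scheme.Modules.pullbackId _).app N⟩
  refine ⟨_, (Scheme.Modules.pushforward (bcSq p L).g).obj N, Nat.card_pos (α := L ≃ₐ[k] L),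
    isFinLocFree_push p L N hN, ?_⟩
  let P := Scheme.Modules.pullback (bcUp p L K)
  exact ⟨((Scheme.Modules.pullbackCongr (show bcUp p L K ≫ (bcSq p L).g = BrSev.proj p K from pullback.lift_fst _ _ _)).app _).symm ≪≫
    ((Scheme.Modules.pullbackComp (bcUp p L K) (bcSq p L).g).app _).symm ≪≫
    P.mapIso (t ≪≫ biproduct.mapIso (fun a => (hs a).some) ≪≫ biproduct.isoCoproduct _) ≪≫
    PreservesCoproduct.iso P _ ≪≫ Sigma.mapIso fun _ => e⟩

end descent

section main

variable {k : Type u} [Field k] {X : Scheme.{u}} {p : X ⟶ Spec (CommRingCat.of k)} [IsProper p]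
  {K : Type u} [Field K] [Algebra k K]

/-- An indecomposable whose type is spanned by isotypical bundles is isotypical. -/
theorem isotypical_of_types {M : X.Modules} (hM : FlatMod.IsFinLocFree M) (hMi : Indec M) {n : ℕ}
    (Ls : Fin n → (BrSev.bc p K).Modules) (hLi : ∀ i, Indec (Ls i)) (e : bcMod p K M ≅ ∐ Ls)
    (hex : ∀ i, ∃ (d : ℕ) (Y : X.Modules), 0 < d ∧ FlatMod.IsFinLocFree Y ∧ Nonempty (bcMod p K Y ≅ pow (Ls i) d)) :
    ∃ (i : Fin n) (m : ℕ), 0 < m ∧ Nonempty (bcMod p K M ≅ pow (Ls i) m) := by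
  letI : X.Over (Spec (CommRingCat.of k)) := ⟨p⟩
  haveI : IsProper (X ↘ Spec (CommRingCat.of k)) := ‹IsProper p›
  haveI := CurvLib.isNoetherian k (X := X)
  letI : (BrSev.bc p K).Over (Spec (CommRingCat.of K)) := ⟨BrSev.bcTo p K⟩
  haveI : IsProper (BrSev.bc p K ↘ Spec (CommRingCat.of K)) :=
    inferInstanceAs (IsProper (pullback.snd p (Spec.map (CommRingCat.ofHom (algebraMap k K)))))
  let P := Scheme.Modules.pullback (BrSev.proj p K)
  choose d Y hd hYlf hYt using hex
  let D := ∏ i, d i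
  have hD : 0 < D := Finset.prod_pos fun i _ => hd i
  let Z := fun i => ∐ fun _ : Fin (D / d i) => Y i
  have hc : ∀ i, Coh.IsCoh (Z i) := fun i => QCohLib.isCoh_of_iso (biproduct.isoCoproduct _)
    (CurveSDLib.isCoh_biproduct fun _ => Groth.Agent.PerfLib.isCoh_of_isFinLocFree (hYlf i))
  have hZ : ∀ i, Nonempty (P.obj (Z i) ≅ ∐ fun _ : Fin D => Ls i) := fun i => by
    obtain ⟨t⟩ := nonempty_pow_pow (Ls i) (d i) (D / d i)
    have h : D / d i * d i = D := Nat.div_mul_cancel (Finset.dvd_prod_of_mem _ (Finset.mem_univ i))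
    exact ⟨PreservesCoproduct.iso P _ ≪≫ (Sigma.mapIso fun _ => (hYt i).some) ≪≫ t ≪≫ eqToIso (by rw [h])⟩
  have hMc := Groth.Agent.PerfLib.isCoh_of_isFinLocFree hM
  obtain ⟨Φ⟩ := noetherDeuring' p K
    (QCohLib.isCoh_of_iso (biproduct.isoCoproduct _) (CurveSDLib.isCoh_biproduct fun _ : Fin D => hMc))
    (QCohLib.isCoh_of_iso (biproduct.isoCoproduct _) (CurveSDLib.isCoh_biproduct hc))
    (PreservesCoproduct.iso P _ ≪≫ (Sigma.mapIso fun _ => e) ≪≫
      sigmaSigmaIso (fun _ : Fin D => Fin n) (fun _ i => Ls i) ≪≫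
      Sigma.whiskerEquiv (f := fun q : (_ : Fin D) × Fin n => Ls q.2) (g := fun q : (_ : Fin n) × Fin D => Ls q.1)
        (((Equiv.sigmaEquivProd (Fin D) (Fin n)).trans (Equiv.prodComm _ _)).trans
          (Equiv.sigmaEquivProd (Fin n) (Fin D)).symm) (fun _ => Iso.refl _) ≪≫
      (sigmaSigmaIso (fun _ : Fin n => Fin D) (fun i _ => Ls i)).symm ≪≫
      (Sigma.mapIso fun i => (hZ i).some.symm) ≪≫ (PreservesCoproduct.iso P Z).symm)
  let Ψ := biproduct.isoCoproduct _ ≪≫ Φ ≪≫ (biproduct.isoCoproduct Z).symm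
  let i₀ : Fin D := ⟨0, hD⟩
  let u := fun i : Fin n => biproduct.ι (fun _ : Fin D => M) i₀ ≫ Ψ.hom ≫ biproduct.π Z i
  let v := fun i : Fin n => biproduct.ι Z i ≫ Ψ.inv ≫ biproduct.π (fun _ : Fin D => M) i₀
  have hsum : (∑ i, u i ≫ v i) = 𝟙 M := by
    calc (∑ i, u i ≫ v i) = biproduct.ι (fun _ : Fin D => M) i₀ ≫ Ψ.hom ≫
          (∑ i, biproduct.π Z i ≫ biproduct.ι Z i) ≫ Ψ.inv ≫ biproduct.π (fun _ : Fin D => M) i₀ := by
          simp only [u, v, Preadditive.sum_comp, Preadditive.comp_sum, Category.assoc]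
      _ = 𝟙 M := by rw [biproduct.total, Category.id_comp, Ψ.hom_inv_id_assoc, biproduct.ι_π_self]
  haveI := finite_hom (k := k) hMc hMc
  obtain ⟨i, -, hi⟩ := exists_isIso_of_sum (k := k) hMi Finset.univ (fun i => u i ≫ v i) (by rw [hsum]; infer_instance)
  haveI := hi
  obtain ⟨R, ⟨g⟩⟩ := exists_biprod_of_retract (u i) (v i ≫ inv (u i ≫ v i)) (by rw [← Category.assoc, IsIso.hom_inv_id])
  haveI : PreservesBinaryBiproducts P := preservesBinaryBiproducts_of_preservesBinaryCoproducts P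
  obtain ⟨m, ⟨t⟩⟩ := summand_pow (k := K) (ConsLib.isCoh_pullback (BrSev.proj p K) (hc i)) (hLi i)
    (P.mapIso g ≪≫ P.mapBiprod _ _) (hZ i).some
  refine ⟨i, m, Nat.pos_of_ne_zero fun h0 => ?_, ⟨t⟩⟩
  subst h0
  haveI := hMc.1
  exact hMi.1 (isZero_of_isZero_pb (bcSq p K) ((isZero_pow_zero (Ls i)).of_iso t))

/-- An invertible module on a connected scheme is indecomposable. -/
theorem indec_invertible_connected {Y : Scheme.{u}} [ConnectedSpace Y] {L : Y.Modules} (hL : PicF.IsInvertible L) :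
    Indec L := by
  refine ⟨not_isZero_invertible hL, fun A B ⟨f⟩ => ?_⟩
  obtain ⟨c, hc⟩ := AVThetaLib.exists_eq_smulHom hL (f.hom ≫ biprod.fst ≫ biprod.inl ≫ f.inv)
  have hcc : c * c = c := AVThetaLib.smulHom_injective hL (by
    rw [← AVThetaLib.smulHom_mul, ← hc]; simp)
  have h01 : c = 0 ∨ c = 1 := by
    have hg : ∀ y : Y, Y.presheaf.germ ⊤ y trivial c = 0 ∨ Y.presheaf.germ ⊤ y trivial c = 1 := fun y =>
      by
      rcases IsLocalRing.isUnit_or_isUnit_one_sub_self (Y.presheaf.germ ⊤ y trivial c) with hu | hu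
      · right
        exact hu.mul_left_cancel (by rw [← map_mul, hcc, mul_one])
      · left
        exact hu.mul_left_eq_zero.1 (by rw [mul_sub, mul_one, ← map_mul, hcc, sub_self]) 
    have hcl : IsClopen (Y.basicOpen c : Set Y) := by
      refine ⟨?_, (Y.basicOpen c).2⟩
      have : (Y.basicOpen c : Set Y)ᶜ = (Y.basicOpen (1 - c) : Set Y) := by
        ext y
        simp only [Set.mem_compl_iff, SetLike.mem_coe, Scheme.mem_basicOpen_top, map_sub, map_one]
        rcases hg y with h | h <;> rw [h] <;> simp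
      rw [← isOpen_compl_iff, this]
      exact (Y.basicOpen (1 - c)).2
    rcases isClopen_iff.1 hcl with h | h
    · left
      refine TopCat.Presheaf.section_ext Y.sheaf ⊤ c 0 fun y hy => ?_
      rcases hg y with hy0 | hy1
      · exact hy0.trans (map_zero _).symm
      · exact absurd (show y ∈ (Y.basicOpen c : Set Y) from (Scheme.mem_basicOpen_top _ _ _).2 (by rw [hy1]; exact isUnit_one))
          (by rw [h]; exact Set.notMem_empty y)
    · right
      refine TopCat.Presheaf.section_ext Y.sheaf ⊤ c 1 fun y hy => ?_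
      rcases hg y with hy0 | hy1
      · have := (Scheme.mem_basicOpen_top _ c y).1 (h.ge (Set.mem_univ y))
        rw [hy0] at this
        exact absurd this not_isUnit_zero
      · exact hy1.trans (map_one _).symm
  rcases h01 with h | h <;> subst h
  · left
    refine (IsZero.iff_id_eq_zero A).2 ?_
    have h0 : StabLib.smulHom L (0 : Γ(Y, ⊤)) = 0 := by
      refine Scheme.Modules.hom_ext _ _ fun U => ConcreteCategory.hom_ext _ _ fun m => ?_
      show (StabLib.smulHom L (0 : Γ(Y, ⊤))).app U m = 0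
      rw [StabLib.smulHom_app]
      simp
    rw [h0] at hc
    calc 𝟙 A = biprod.inl ≫ f.inv ≫ (f.hom ≫ biprod.fst ≫ biprod.inl ≫ f.inv) ≫ f.hom ≫ biprod.fst := by simp
      _ = 0 := by rw [hc]; simp
  · right
    refine (IsZero.iff_id_eq_zero B).2 ?_
    rw [AVThetaLib.smulHom_one] at hc
    calc 𝟙 B = biprod.inr ≫ f.inv ≫ (f.hom ≫ biprod.fst ≫ biprod.inl ≫ f.inv) ≫ f.hom ≫ biprod.snd := by
          rw [hc]; simp
      _ = 0 := by simp

/-- An indecomposable bundle of invariant type exists over the base field. -/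
theorem exists_indec_of_invariant [Algebra.IsAlgebraic k K] [IsGalois k K] {W : (BrSev.bc p K).Modules}
    (hW : FlatMod.IsFinLocFree W) (hWi : Indec W)
    (hinv : ∀ σ : K ≃ₐ[k] K, Nonempty ((Scheme.Modules.pullback (galAct p K σ)).obj W ≅ W)) :
    ∃ (M : X.Modules) (r : ℕ), FlatMod.IsFinLocFree M ∧ Indec M ∧ 0 < r ∧ Nonempty (bcMod p K M ≅ pow W r) := by
  obtain ⟨d, M, hd, hM, ⟨e⟩⟩ := exists_isotypical_of_invariant p K hW hinv
  letI : X.Over (Spec (CommRingCat.of k)) := ⟨p⟩
  haveI : IsProper (X ↘ Spec (CommRingCat.of k)) := ‹IsProper p›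
  haveI := CurvLib.isNoetherian k (X := X)
  letI : (BrSev.bc p K).Over (Spec (CommRingCat.of K)) := ⟨BrSev.bcTo p K⟩
  haveI : IsProper (BrSev.bc p K ↘ Spec (CommRingCat.of K)) :=
    inferInstanceAs (IsProper (pullback.snd p (Spec.map (CommRingCat.ofHom (algebraMap k K)))))
  let P := Scheme.Modules.pullback (BrSev.proj p K)
  haveI : PreservesBinaryBiproducts P := preservesBinaryBiproducts_of_preservesBinaryCoproducts P
  have hMc := Groth.Agent.PerfLib.isCoh_of_isFinLocFree hM
  have hM0 : ¬ IsZero M := fun h => by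
    have h1 : IsZero (pow W d) := (P.map_isZero h).of_iso e.symm
    refine hWi.1 ((IsZero.iff_id_eq_zero W).2 ?_)
    rw [← biproduct.ι_π_self (fun _ : Fin d => W) ⟨0, hd⟩,
      (h1.of_iso (biproduct.isoCoproduct fun _ : Fin d => W)).eq_zero_of_tgt (biproduct.ι (fun _ : Fin d => W) ⟨0, hd⟩),
      zero_comp]
  obtain ⟨⟨G, n, hG, hGi, ⟨eM⟩⟩, -⟩ := isotypical_pow p K hM hM0 hWi e
  rcases n with _ | n
  · exact absurd ((isZero_pow_zero G).of_iso eM) hM0
  obtain ⟨r, ⟨t⟩⟩ := summand_pow (k := K) (ConsLib.isCoh_pullback (BrSev.proj p K) hMc) hWi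
    (P.mapIso (eM ≪≫ (biproduct.isoCoproduct _).symm ≪≫ splitOff (fun _ : Fin (n + 1) => G) 0) ≪≫ P.mapBiprod _ _) e
  refine ⟨G, r, hG, hGi, Nat.pos_of_ne_zero fun h0 => ?_, ⟨t⟩⟩
  subst h0
  haveI := (Groth.Agent.PerfLib.isCoh_of_isFinLocFree hG).1
  exact hGi.1 (isZero_of_isZero_pb (bcSq p K) ((isZero_pow_zero W).of_iso t))

end main

end KSMod
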