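import Groth.Agent.KSModLib.NoetherDeuring
import Groth.Agent.S1688
import Groth.Agent.AVThetaLib.Scalar
import Groth.Agent.DefClassLib.Basic
import Groth.Agent.KFlatLib.PerfectPull
import Groth.Agent.AmpleDevLib.Devissage
import Groth.Agent.PerfLib.Coherent
import Groth.Prelude.Def_W4c1astiltbs12AS

/-! Isotypical bundles. -/

set_option autoImplicit false
set_option linter.style.haveILetI false
universe u

noncomputable section

open CategoryTheory CategoryTheory.Limits AlgebraicGeometry TopologicalSpace Opposite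
open GLinBCLib KFlatLib
open W4c1astiltbs12 (pow bcMod proj)

namespace KSMod

attribute [local instance] Abelian.hasFiniteBiproducts

section

variable {X : Scheme.{u}}

/-- A power of a power. -/
theorem nonempty_pow_pow (M : X.Modules) (r s : ℕ) : Nonempty (pow (pow M r) s ≅ pow M (s * r)) :=
  ⟨sigmaSigmaIso (fun _ : Fin s => Fin r) (fun _ _ => M) ≪≫
    Sigma.whiskerEquiv ((Equiv.sigmaEquivProd (Fin s) (Fin r)).trans finProdFinEquiv) (fun _ => Iso.refl M)⟩

theorem isZero_pow_zero (M : X.Modules) : IsZero (pow M 0) :=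
  (isZero_of_isEmpty fun _ : Fin 0 => M).of_iso (biproduct.isoCoproduct _).symm

theorem isFinLocFree_of_retract {M N : X.Modules} (i : M ⟶ N) (r : N ⟶ M) (h : i ≫ r = 𝟙 M)
    (hN : FlatMod.IsFinLocFree N) [IsLocallyNoetherian X] : FlatMod.IsFinLocFree M := by
  refine Groth.Agent.S1688.isFinLocFree_of_isFP_of_flat
    (QCohLib.isFP_of_isCoh _ (isCoh_of_retract i r h (Groth.Agent.PerfLib.isCoh_of_isFinLocFree hN))) fun x => ?_
  let F := DerSch.stalkFunctor X x
  have hN' : Module.Flat (X.presheaf.stalk x) (F.obj N) := KFlatLib.isFlat_of_isFinLocFree hN x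
  have h1 : Module.Flat (X.presheaf.stalk x) (F.obj M) :=
    Module.Flat.of_retract (M := F.obj N) (F.map i).hom (F.map r).hom (by
      rw [← ModuleCat.hom_comp, ← F.map_comp, h, F.map_id]; rfl)
  exact h1

theorem isFinLocFree_fst {M A B : X.Modules} (e : M ≅ A ⊞ B) (hM : FlatMod.IsFinLocFree M) [IsLocallyNoetherian X] :
    FlatMod.IsFinLocFree A :=
  isFinLocFree_of_retract (biprod.inl ≫ e.inv) (e.hom ≫ biprod.fst) (by simp) hM

variable {k : Type u} [Field k] [X.Over (Spec (CommRingCat.of k))] [IsProper (X ↘ Spec (CommRingCat.of k))]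

include k in
/-- Two indecomposables with isomorphic nonzero powers are isomorphic. -/
theorem iso_of_pow_iso {E E' : X.Modules} (hE : Coh.IsCoh E) (hEi : Indec E) (hE'i : Indec E') {n m : ℕ}
    (hn : n ≠ 0) (e : pow E n ≅ pow E' m) : Nonempty (E ≅ E') := by
  haveI := finite_hom (k := k) hE hE
  obtain ⟨g, hg⟩ := unique_decomp (k := k) n m (fun _ => E) (fun _ => E') (fun _ => hEi) (fun _ => hE'i)
    (fun _ => inferInstance) (biproduct.isoCoproduct _ ≪≫ e ≪≫ (biproduct.isoCoproduct _).symm)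
  exact hg ⟨0, Nat.pos_of_ne_zero hn⟩

include k in
/-- A direct summand of an isotypical module is isotypical. -/
theorem summand_pow {M A B L : X.Modules} (hM : Coh.IsCoh M) (hL : Indec L) (e : M ≅ A ⊞ B) {r : ℕ}
    (eM : M ≅ pow L r) : ∃ a : ℕ, Nonempty (A ≅ pow L a) := by
  haveI := finite_hom (k := k) hM hM
  obtain ⟨hA, hB⟩ := finite_end_of_biprod (k := k) e
  obtain ⟨n, Fs, hF, hFf, ⟨eA⟩⟩ := exists_decomp (k := k) A
  suffices h : ∀ i, Nonempty (Fs i ≅ L) by
    exact ⟨n, ⟨eA ≪≫ biproduct.isoCoproduct _ ≪≫ Sigma.mapIso fun i => (h i).some⟩⟩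
  intro i
  rcases n with _ | n
  · exact i.elim0
  obtain ⟨m, Gs, hG, hGf, ⟨eR⟩⟩ := exists_decomp (k := k) B
  let f : M ≅ Fs i ⊞ ((⨁ (Fs ∘ i.succAbove)) ⊞ B) :=
    e ≪≫ biprod.mapIso (eA ≪≫ splitOff Fs i) (Iso.refl B) ≪≫ biprod.associator _ _ _
  haveI := hFf i
  let p := fun j : Fin r => (biprod.inl ≫ f.inv ≫ eM.hom ≫ (biproduct.isoCoproduct _).inv ≫ biproduct.π (fun _ : Fin r => L) j) ≫
    (biproduct.ι (fun _ : Fin r => L) j ≫ (biproduct.isoCoproduct _).hom ≫ eM.inv ≫ f.hom ≫ biprod.fst)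
  have hs : (∑ j, p j) = 𝟙 (Fs i) := by
    calc (∑ j, p j) = biprod.inl ≫ f.inv ≫ eM.hom ≫ (biproduct.isoCoproduct _).inv ≫
          (∑ j, biproduct.π (fun _ : Fin r => L) j ≫ biproduct.ι (fun _ : Fin r => L) j) ≫
          (biproduct.isoCoproduct _).hom ≫ eM.inv ≫ f.hom ≫ biprod.fst := by
          simp only [p, Preadditive.sum_comp, Preadditive.comp_sum, Category.assoc]
      _ = 𝟙 (Fs i) := by
        rw [biproduct.total, Category.id_comp, Iso.inv_hom_id_assoc, Iso.hom_inv_id_assoc, Iso.inv_hom_id_assoc, biprod.inl_fst]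
  obtain ⟨j, -, hj⟩ := exists_isIso_of_sum (k := k) (hF i) Finset.univ p (by rw [hs]; infer_instance)
  haveI := hj
  have ha := isIso_of_retract hL (hF i).1
    (biprod.inl ≫ f.inv ≫ eM.hom ≫ (biproduct.isoCoproduct _).inv ≫ biproduct.π (fun _ : Fin r => L) j)
    (biproduct.ι (fun _ : Fin r => L) j ≫ (biproduct.isoCoproduct _).hom ≫ eM.inv ≫ f.hom ≫ biprod.fst ≫ inv (p j))
    (by rw [← IsIso.hom_inv_id (p j)]; simp only [p, Category.assoc])
  exact ⟨asIso (biprod.inl ≫ f.inv ≫ eM.hom ≫ (biproduct.isoCoproduct _).inv ≫ biproduct.π (fun _ : Fin r => L) j)⟩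

end

section

variable {k : Type u} [Field k] {X : Scheme.{u}} (p : X ⟶ Spec (CommRingCat.of k)) (K : Type u) [Field K] [Algebra k K]

/-- The base change square. -/
def bcSq : BC k K X (W4bk4gw11416.baseChange p K) where
  g := proj p K
  iX := p
  iY := pullback.snd p _
  sq := IsPullback.of_hasPullback _ _

variable [IsProper p]

theorem noetherDeuring' {F G : X.Modules} (hF : Coh.IsCoh F) (hG : Coh.IsCoh G)
    (e : bcMod p K F ≅ bcMod p K G) : Nonempty (F ≅ G) := by
  letI : X.Over (Spec (CommRingCat.of k)) := ⟨p⟩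
  haveI : IsProper (X ↘ Spec (CommRingCat.of k)) := ‹IsProper p›
  letI : (W4bk4gw11416.baseChange p K).Over (Spec (CommRingCat.of K)) := ⟨(bcSq p K).iY⟩
  haveI : IsProper ((W4bk4gw11416.baseChange p K) ↘ Spec (CommRingCat.of K)) :=
    inferInstanceAs (IsProper (pullback.snd p (Spec.map (CommRingCat.ofHom (algebraMap k K)))))
  exact noetherDeuring (bcSq p K) hF hG e

/-- Indecomposables of the same type are isomorphic. -/
theorem isotypical_unique {E E' : X.Modules} (hE : Coh.IsCoh E) (hE' : Coh.IsCoh E') (hEi : Indec E)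
    (hE'i : Indec E') {W : (W4bk4gw11416.baseChange p K).Modules} {r s : ℕ} (eE : bcMod p K E ≅ pow W r)
    (eE' : bcMod p K E' ≅ pow W s) : Nonempty (E ≅ E') := by
  letI : X.Over (Spec (CommRingCat.of k)) := ⟨p⟩
  haveI : IsProper (X ↘ Spec (CommRingCat.of k)) := ‹IsProper p›
  haveI := CurvLib.isNoetherian k (X := X)
  let P := Scheme.Modules.pullback (proj p K)
  haveI := hE'.1
  by_cases hs : s = 0
  · subst hs
    exact absurd (isZero_of_isZero_pb (bcSq p K) ((isZero_pow_zero W).of_iso eE')) hE'i.1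
  have hc : ∀ (M : X.Modules), Coh.IsCoh M → ∀ n, Coh.IsCoh (pow M n) := fun M hM n =>
    QCohLib.isCoh_of_iso (biproduct.isoCoproduct _) (CurveSDLib.isCoh_biproduct fun _ => hM)
  obtain ⟨e1⟩ := nonempty_pow_pow W r s
  obtain ⟨e2⟩ := nonempty_pow_pow W s r
  let c : ∀ (M : X.Modules) (n : ℕ), P.obj (pow M n) ≅ pow (P.obj M) n := fun M n =>
    PreservesCoproduct.iso P fun _ : Fin n => M
  obtain ⟨t⟩ := noetherDeuring' p K (hc E hE s) (hc E' hE' r)
    (c E s ≪≫ (Sigma.mapIso fun _ => eE) ≪≫ e1 ≪≫ eqToIso (by rw [Nat.mul_comm]) ≪≫ e2.symm ≪≫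
      (Sigma.mapIso fun _ => eE'.symm) ≪≫ (c E' r).symm)
  exact iso_of_pow_iso (k := k) hE hEi hE'i hs t

/-- An isotypical bundle is a power of an indecomposable bundle. -/
theorem isotypical_pow {E : X.Modules} (hE : FlatMod.IsFinLocFree E) (hE0 : ¬ IsZero E)
    {L : (W4bk4gw11416.baseChange p K).Modules} (hL : Indec L) {r : ℕ} (e : bcMod p K E ≅ pow L r) :
    (∃ (G : X.Modules) (n : ℕ), FlatMod.IsFinLocFree G ∧ Indec G ∧ Nonempty (E ≅ pow G n)) ∧
    (∀ (G G' : X.Modules) (n m : ℕ), Indec G → Indec G' →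
      Nonempty (E ≅ pow G n) → Nonempty (E ≅ pow G' m) → Nonempty (G ≅ G')) := by
  letI : X.Over (Spec (CommRingCat.of k)) := ⟨p⟩
  haveI : IsProper (X ↘ Spec (CommRingCat.of k)) := ‹IsProper p›
  haveI := CurvLib.isNoetherian k (X := X)
  letI : (W4bk4gw11416.baseChange p K).Over (Spec (CommRingCat.of K)) := ⟨(bcSq p K).iY⟩
  haveI : IsProper ((W4bk4gw11416.baseChange p K) ↘ Spec (CommRingCat.of K)) :=
    inferInstanceAs (IsProper (pullback.snd p (Spec.map (CommRingCat.ofHom (algebraMap k K)))))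
  let P := Scheme.Modules.pullback (proj p K)
  haveI : PreservesBinaryBiproducts P := preservesBinaryBiproducts_of_preservesBinaryCoproducts P
  have hEc := Groth.Agent.PerfLib.isCoh_of_isFinLocFree hE
  haveI := finite_hom (k := k) hEc hEc
  refine ⟨?_, fun G G' n m hG hG' ⟨a⟩ ⟨b⟩ => ?_⟩
  · obtain ⟨n, Fs, hF, hFf, ⟨eE⟩⟩ := exists_decomp (k := k) E
    rcases n with _ | n
    · exact absurd ((isZero_of_isEmpty Fs).of_iso eE) hE0
    have hsp : ∀ i, Coh.IsCoh (Fs i) ∧ FlatMod.IsFinLocFree (Fs i) := fun i =>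
      ⟨isCoh_fst (eE ≪≫ splitOff Fs i) hEc, isFinLocFree_fst (eE ≪≫ splitOff Fs i) hE⟩
    have ht : ∀ i, ∃ a : ℕ, Nonempty (bcMod p K (Fs i) ≅ pow L a) := fun i =>
      summand_pow (k := K) (ConsLib.isCoh_pullback (proj p K) hEc) hL
        (P.mapIso (eE ≪≫ splitOff Fs i) ≪≫ P.mapBiprod _ _) e
    refine ⟨Fs 0, n + 1, (hsp 0).2, hF 0, ⟨eE ≪≫ biproduct.isoCoproduct _ ≪≫ Sigma.mapIso fun i => ?_⟩⟩
    exact (isotypical_unique p K (hsp i).1 (hsp 0).1 (hF i) (hF 0) (ht i).choose_spec.some (ht 0).choose_spec.some).some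
  · rcases n with _ | n
    · exact absurd ((isZero_pow_zero G).of_iso a) hE0
    exact iso_of_pow_iso (k := k)
      (isCoh_fst (a ≪≫ (biproduct.isoCoproduct _).symm ≪≫ splitOff (fun _ : Fin (n+1) => G) 0) hEc) hG hG'
      (Nat.succ_ne_zero n) (a.symm ≪≫ b)

/-- The endomorphisms of an isotypical indecomposable bundle form a division ring. -/
theorem isIso_of_ne_zero [GeometricallyIntegral p] {E : X.Modules} (hE : FlatMod.IsFinLocFree E) (hEi : Indec E)
    {L : (W4bk4gw11416.baseChange p K).Modules} (hL : PicF.IsInvertible L) {r : ℕ} (e : bcMod p K E ≅ pow L r)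
    (f : E ⟶ E) (hf : f ≠ 0) : IsIso f := by
  classical
  by_contra hfi
  letI : X.Over (Spec (CommRingCat.of k)) := ⟨p⟩
  haveI : IsProper (X ↘ Spec (CommRingCat.of k)) := ‹IsProper p›
  haveI := CurvLib.isNoetherian k (X := X)
  let β := bcSq p K
  let P := Scheme.Modules.pullback β.g
  have hEc := Groth.Agent.PerfLib.isCoh_of_isFinLocFree hE
  haveI := hEc.1
  haveI := finite_hom (k := k) hEc hEc
  haveI : Module.Finite k (End E) := ‹Module.Finite k (E ⟶ E)›
  haveI : IsArtinianRing (End E) := IsArtinianRing.of_finite k _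
  obtain ⟨N, hN⟩ := IsSemiprimaryRing.isNilpotent (R := End E)
  have hfJ : (f : End E) ∈ Ring.jacobson (End E) :=
    nonunit_mem_jacobson (k := k) (idem_end hEi) fun hu => hfi ((isUnit_iff_isIso _).1 hu)
  let eb := Module.Free.chooseBasis k K
  -- the components of the pullback
  let Q : pb β.g E ≅ ⨁ fun _ : Fin r => L := e ≪≫ (biproduct.isoCoproduct _).symm
  let ι' : Fin r → (L ⟶ pb β.g E) := fun a => biproduct.ι (fun _ : Fin r => L) a ≫ Q.inv
  let π' : Fin r → (pb β.g E ⟶ L) := fun a => Q.hom ≫ biproduct.π (fun _ : Fin r => L) a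
  have hιπ : ∀ a, ι' a ≫ π' a = 𝟙 L := fun a => by simp [ι', π']
  have htot : (∑ a, π' a ≫ ι' a) = 𝟙 (pb β.g E) := by
    calc (∑ a, π' a ≫ ι' a) = Q.hom ≫ (∑ a, biproduct.π (fun _ : Fin r => L) a ≫
          biproduct.ι (fun _ : Fin r => L) a) ≫ Q.inv := by
          simp only [π', ι', Preadditive.sum_comp, Preadditive.comp_sum, Category.assoc]
      _ = _ := by rw [biproduct.total, Category.id_comp, Q.hom_inv_id]
  have hne : P.map f ≠ 0 := fun h0 => hf (DefClassLib.hom_ext_affines fun U m => by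
    obtain ⟨i⟩ : Nonempty (Module.Free.ChooseBasisIndex k K) := eb.index_nonempty
    show f.app U.1 m = 0
    refine Finsupp.single_injective i ((combM_bijective β eb E U.2).1 ?_)
    unfold combM
    rw [Finsupp.sum_single_index (by rw [puSec_zero, smul_zero]),
      Finsupp.sum_single_index (by rw [puSec_zero, smul_zero]), ← puSec_natural]
    show _ • (P.map f).app _ (puSec β.g m) = _ • puSec β.g 0
    rw [h0, puSec_zero]
    rfl)
  obtain ⟨a, b, hab⟩ : ∃ a b, ι' a ≫ P.map f ≫ π' b ≠ 0 := by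
    by_contra hh
    simp only [not_exists, not_not] at hh
    refine hne ?_
    calc P.map f = (∑ a, π' a ≫ ι' a) ≫ P.map f ≫ (∑ b, π' b ≫ ι' b) := by rw [htot, Category.id_comp, Category.comp_id]
      _ = 0 := by
        simp only [Preadditive.sum_comp, Preadditive.comp_sum]
        refine Finset.sum_eq_zero fun a _ => Finset.sum_eq_zero fun b _ => ?_
        rw [Category.assoc, ← Category.assoc (P.map f), ← Category.assoc (ι' _), hh, zero_comp, comp_zero]
  -- it is invertible
  haveI : GeometricallyIntegral β.iY := inferInstanceAs (GeometricallyIntegral (pullback.snd p _))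
  haveI : IsIntegral (W4bk4gw11416.baseChange p K) := GeometricallyIntegral.isIntegral_of_subsingleton β.iY
  haveI : IsProper β.iY := inferInstanceAs (IsProper (pullback.snd p _))
  obtain ⟨c, hc⟩ := AVThetaLib.exists_eq_smulHom hL (ι' a ≫ P.map f ≫ π' b)
  have hc0 : c ≠ 0 := fun h0 => hab (by
    rw [hc, h0]
    refine Scheme.Modules.hom_ext _ _ fun U => ConcreteCategory.hom_ext _ _ fun m => ?_
    show (StabLib.smulHom L (0 : Γ(W4bk4gw11416.baseChange p K, ⊤))).app U m = 0
    rw [StabLib.smulHom_app]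
    simp)
  obtain ⟨d, hd⟩ := (isField_of_universallyClosed K β.iY).mul_inv_cancel hc0
  let φ : pb β.g E ⟶ pb β.g E := π' b ≫ StabLib.smulHom L d ≫ ι' a
  have hfix : ι' a ≫ (P.map f ≫ φ) = ι' a := by
    simp only [φ, ← Category.assoc]
    rw [Category.assoc (ι' a) (P.map f), hc, AVThetaLib.smulHom_mul, mul_comm, hd, AVThetaLib.smulHom_one, Category.id_comp]
  -- but it is nilpotent
  obtain ⟨α, hα⟩ := exists_coord β eb φ
  let G₀ : End (pb β.g E) := P.map f ≫ φ
  let T : ℕ → (pb β.g E ⟶ pb β.g E) := fun n => G₀ ^ n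
  have hT : ∀ n, T (n + 1) = T n ≫ P.map f ≫ φ := fun n => pow_succ' G₀ n
  have hzero : T N = 0 := by
    refine ((Scheme.Modules.pullbackPushforwardAdjunction β.g).homEquiv _ _).injective
      (DefClassLib.hom_ext_affines fun U m => ?_)
    rw [Adjunction.homEquiv_unit, Adjunction.homEquiv_unit, Functor.map_zero, comp_zero]
    show (T N).app (β.g ⁻¹ᵁ U.1) (puSec β.g m) = 0
    let S : ℕ → Submodule Γ(W4bk4gw11416.baseChange p K, β.g ⁻¹ᵁ U.1) Γ(pb β.g E, β.g ⁻¹ᵁ U.1) := fun n =>
      Submodule.span _ {z | ∃ (h : E ⟶ E) (m : Γ(E, U.1)), (h : End E) ∈ Ring.jacobson (End E) ^ n ∧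
        z = puSec β.g (h.app U.1 m)}
    have h1 : ∀ (n : ℕ) (z), z ∈ S n → (P.map f ≫ φ).app _ z ∈ S (n + 1) := by
      intro n z hz
      induction hz using Submodule.span_induction with
      | zero => rw [map_zero]; exact Submodule.zero_mem _
      | add x y _ _ hx hy => rw [map_add]; exact Submodule.add_mem _ hx hy
      | smul c x _ hx => rw [Scheme.Modules.Hom.app_smul]; exact Submodule.smul_mem _ c hx
      | mem z hz =>
        obtain ⟨h, m, hh, rfl⟩ := hz
        show φ.app _ ((P.map f).app _ (puSec β.g (h.app U.1 m))) ∈ _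
        rw [puSec_natural]
        obtain ⟨b', hb, hb'⟩ := hα U.1 U.2 (f.app U.1 (h.app U.1 m))
        rw [hb', combM]
        refine Submodule.sum_mem _ fun i _ => Submodule.smul_mem _ _ ?_
        refine Submodule.subset_span ⟨h ≫ f ≫ α i, m, ?_, ?_⟩
        · let f₀ : End E := f
          let α₀ : End E := α i
          let u : End E := α₀ * f₀
          let v : End E := h
          show u * v ∈ _
          rw [Ideal.IsTwoSided.pow_succ]
          exact Ideal.mul_mem_mul (Ideal.mul_mem_left _ α₀ hfJ) hh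
        · rw [hb]; rfl
    have h2 : ∀ n, (T n).app _ (puSec β.g m) ∈ S n := by
      intro n
      induction n with
      | zero => exact Submodule.subset_span ⟨𝟙 E, m, by simp [Submodule.pow_zero, Ideal.one_eq_top], rfl⟩
      | succ n ih => rw [hT]; exact h1 n _ ih
    have h3 : S N ≤ ⊥ := Submodule.span_le.2 fun z ⟨h, m', hh, hz⟩ => by
      rw [hN] at hh
      have h0 : h = 0 := hh
      rw [hz, h0]
      exact puSec_zero β E U.1
    exact h3 (h2 N)
  have hall : ∀ n, ι' a ≫ T n = ι' a := fun n => by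
    induction n with
    | zero => exact (congrArg (fun z => ι' a ≫ z) (pow_zero G₀)).trans (Category.comp_id _)
    | succ n ih => rw [hT, ← Category.assoc, ih, hfix]
  have hL0 : IsZero L := (IsZero.iff_id_eq_zero L).2 (by
    rw [← hιπ a, ← hall N, hzero, comp_zero, zero_comp])
  exact hab (hL0.eq_of_src _ _)

end

end KSMod
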