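import Groth.Agent.KSModLib.Isotypical
import Groth.Agent.EtaleEulerLib.Main
import Groth.Agent.CohBCLib.Cons
import Groth.Agent.GrTildeLib.IsoCrit

/-! The direct image of a Galois invariant module. -/

set_option autoImplicit false
set_option linter.style.haveILetI false
universe u

noncomputable section

open CategoryTheory CategoryTheory.Limits AlgebraicGeometry TopologicalSpace Opposite
open GLinBCLib KFlatLib
open W4c1astiltbs12 (galAct)

namespace KSMod

attribute [local instance] Abelian.hasFiniteBiproducts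

variable {k : Type u} [Field k] {X : Scheme.{u}} (p : X ⟶ Spec (CommRingCat.of k)) (F : Type u) [Field F] [Algebra k F]

theorem galAct_fst (σ : F ≃ₐ[k] F) : galAct p F σ ≫ (bcSq p F).g = (bcSq p F).g :=
  (pullback.lift_fst _ _ _).trans (Category.comp_id _)

theorem galAct_snd (σ : F ≃ₐ[k] F) :
    galAct p F σ ≫ (bcSq p F).iY = (bcSq p F).iY ≫ Spec.map (CommRingCat.ofHom (σ : F →+* F)) :=
  pullback.lift_snd _ _ _

instance isIso_galAct (σ : F ≃ₐ[k] F) : IsIso (galAct p F σ) := by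
  have h : ∀ τ : F ≃ₐ[k] F, galAct p F τ ≫ galAct p F τ.symm = 𝟙 _ := fun τ => by
    refine (bcSq p F).sq.hom_ext ?_ ?_
    · rw [Category.assoc, galAct_fst, galAct_fst, Category.id_comp]
    · rw [Category.assoc, galAct_snd, ← Category.assoc, galAct_snd, Category.assoc, ← Spec.map_comp,
        Category.id_comp, ← CommRingCat.ofHom_comp,
        show ((τ : F →+* F).comp (τ.symm : F →+* F)) = RingHom.id F from RingHom.ext fun x => τ.apply_symm_apply x,
        CommRingCat.ofHom_id, Spec.map_id, Category.comp_id]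
  exact ⟨galAct p F σ.symm, h σ, by simpa using h σ.symm⟩

/-- The comparison map at a Galois element. -/
def galComp (N : (W4bk4gw11416.baseChange p F).Modules) (σ : F ≃ₐ[k] F) :
    pb (bcSq p F).g ((Scheme.Modules.pushforward (bcSq p F).g).obj N) ⟶
      (Scheme.Modules.pushforward (galAct p F σ)).obj N :=
  ((Scheme.Modules.pullbackPushforwardAdjunction (bcSq p F).g).homEquiv _ _).symm
    ((Scheme.Modules.pushforwardCongr (galAct_fst p F σ)).inv.app N ≫
      (Scheme.Modules.pushforwardComp (galAct p F σ) (bcSq p F).g).inv.app N)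

theorem galComp_puSec (N : (W4bk4gw11416.baseChange p F).Modules) (σ : F ≃ₐ[k] F) (U : X.Opens)
    (m : Γ((Scheme.Modules.pushforward (bcSq p F).g).obj N, U)) :
    (galComp p F N σ).app ((bcSq p F).g ⁻¹ᵁ U) (puSec (bcSq p F).g m) =
      N.presheaf.map (eqToHom (congrArg (fun h : _ ⟶ X => h ⁻¹ᵁ U) (galAct_fst p F σ))).op m := by
  let φ := galComp p F N σ
  have h := congr(Scheme.Modules.Hom.app $(((Scheme.Modules.pullbackPushforwardAdjunction (bcSq p F).g).homEquiv _ _).apply_symm_apply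
    ((Scheme.Modules.pushforwardCongr (galAct_fst p F σ)).inv.app N ≫
      (Scheme.Modules.pushforwardComp (galAct p F σ) (bcSq p F).g).inv.app N)) U m)
  rw [Adjunction.homEquiv_unit] at h
  refine h.trans ?_
  rfl

variable [FiniteDimensional k F] [IsGalois k F]

theorem galMatrix_isUnit {ι : Type*} [Fintype ι] [DecidableEq ι] (e : Module.Basis ι k F) (t : (F ≃ₐ[k] F) ≃ ι) :
    IsUnit (Matrix.of fun a i : ι => t.symm a (e i)) := by
  refine Matrix.linearIndependent_rows_iff_isUnit.1 (Fintype.linearIndependent_iff.2 fun c hc => ?_)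
  have hind : LinearIndependent F fun a : ι => ((t.symm a).toAlgHom.toLinearMap : F →ₗ[k] F) :=
    (linearIndependent_algHom_toLinearMap k F F).comp (fun a => (t.symm a).toAlgHom)
      fun a b h => t.symm.injective (AlgEquiv.coe_toAlgHom_injective h)
  refine Fintype.linearIndependent_iff.1 hind c (e.ext fun i => ?_)
  simpa [Matrix.row, Matrix.of_apply] using congrFun hc i

theorem isQCoh_pushforward_g (N : (W4bk4gw11416.baseChange p F).Modules) [Coh.IsQCoh N] :
    Coh.IsQCoh ((Scheme.Modules.pushforward (bcSq p F).g).obj N) := by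
  haveI := (bcSq p F).isAffineHom_g
  exact QCohLib.isQCoh_pushforward _ _

theorem galPre (σ : F ≃ₐ[k] F) (U : X.Opens) :
    galAct p F σ ⁻¹ᵁ (bcSq p F).g ⁻¹ᵁ U = (bcSq p F).g ⁻¹ᵁ U :=
  congrArg (fun h : _ ⟶ X => h ⁻¹ᵁ U) (galAct_fst p F σ)

theorem galAct_cY (σ : F ≃ₐ[k] F) (V : (W4bk4gw11416.baseChange p F).Opens) (c : F) :
    (galAct p F σ).app V ((bcSq p F).cY V c) = (bcSq p F).cY (galAct p F σ ⁻¹ᵁ V) (σ c) := by
  have h1 : (galAct p F σ).app V ((bcSq p F).cY V c) =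
      (galAct p F σ ≫ (bcSq p F).iY).appLE ⊤ (galAct p F σ ⁻¹ᵁ V) le_top ((Scheme.ΓSpecIso (CommRingCat.of F)).inv c) := by
    show ((bcSq p F).iY.appLE ⊤ V le_top ≫ (galAct p F σ).app V) _ = _
    rw [Scheme.Hom.app_eq_appLE, Scheme.Hom.appLE_comp_appLE]
    rfl
  have h2 : (bcSq p F).cY (galAct p F σ ⁻¹ᵁ V) (σ c) = ((bcSq p F).iY ≫ Spec.map (CommRingCat.ofHom (σ : F →+* F))).appLE ⊤
      (galAct p F σ ⁻¹ᵁ V) le_top ((Scheme.ΓSpecIso (CommRingCat.of F)).inv c) := by
    show (CommRingCat.ofHom (σ : F →+* F) ≫ (Scheme.ΓSpecIso (CommRingCat.of F)).inv ≫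
        (bcSq p F).iY.appLE ⊤ (galAct p F σ ⁻¹ᵁ V) le_top) c = _
    rw [← Category.assoc, Scheme.ΓSpecIso_inv_naturality, Category.assoc, Scheme.Hom.comp_appLE]
    rfl
  rw [h1, h2]
  congr 1
  simp only [galAct_snd]

/-- The component of a Galois conjugate, moved back. -/
def galR (N : (W4bk4gw11416.baseChange p F).Modules) (σ : F ≃ₐ[k] F) (U : X.Opens) :
    Γ((Scheme.Modules.pushforward (galAct p F σ)).obj N, (bcSq p F).g ⁻¹ᵁ U) →+ Γ(N, (bcSq p F).g ⁻¹ᵁ U) :=
  (N.presheaf.map (eqToHom (galPre p F σ U).symm).op).hom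

theorem galR_bijective (N : (W4bk4gw11416.baseChange p F).Modules) (σ : F ≃ₐ[k] F) (U : X.Opens) :
    Function.Bijective (galR p F N σ U) :=
  ConcreteCategory.bijective_of_isIso (N.presheaf.map (eqToHom (galPre p F σ U).symm).op)

theorem galR_puSec (N : (W4bk4gw11416.baseChange p F).Modules) (σ : F ≃ₐ[k] F) (U : X.Opens) (c : F)
    (m : Γ((Scheme.Modules.pushforward (bcSq p F).g).obj N, U)) :
    galR p F N σ U ((galComp p F N σ).app ((bcSq p F).g ⁻¹ᵁ U) ((bcSq p F).cY ((bcSq p F).g ⁻¹ᵁ U) c • puSec (bcSq p F).g m)) =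
      (bcSq p F).cY ((bcSq p F).g ⁻¹ᵁ U) (σ c) • (show Γ(N, (bcSq p F).g ⁻¹ᵁ U) from m) := by
  rw [Scheme.Modules.Hom.app_smul, galComp_puSec]
  refine (Scheme.Modules.map_smul N (eqToHom (galPre p F σ U).symm) _ _).trans ?_
  refine congrArg₂ (· • ·) ?_ ?_
  · refine Eq.trans (congrArg _ (galAct_cY p F σ _ c)) ?_
    exact (bcSq p F).rs_cY (galPre p F σ U).ge _
  · show N.presheaf.map _ (N.presheaf.map _ _) = _
    rw [← ConcreteCategory.comp_apply, ← Functor.map_comp]
    exact congr($(N.presheaf.map_id (op ((bcSq p F).g ⁻¹ᵁ U))) m)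

theorem galR_combM {ι : Type u} [Fintype ι] (e : Module.Basis ι k F) (N : (W4bk4gw11416.baseChange p F).Modules)
    (σ : F ≃ₐ[k] F) (U : X.Opens) (b : ι →₀ Γ((Scheme.Modules.pushforward (bcSq p F).g).obj N, U)) :
    galR p F N σ U ((galComp p F N σ).app ((bcSq p F).g ⁻¹ᵁ U) (combM (bcSq p F) e _ U b)) =
      ∑ i, (bcSq p F).cY ((bcSq p F).g ⁻¹ᵁ U) (σ (e i)) • (show Γ(N, (bcSq p F).g ⁻¹ᵁ U) from b i) := by
  rw [combM, Finsupp.sum_fintype _ _ (fun i => by rw [puSec_zero, smul_zero]), map_sum, map_sum]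
  exact Finset.sum_congr rfl fun i _ => galR_puSec p F N σ U (e i) (b i)

theorem matrix_bijective {R V : Type*} [CommRing R] [AddCommGroup V] [Module R V] {ι : Type*} [Fintype ι] [DecidableEq ι]
    (u : (Matrix ι ι R)ˣ) : Function.Bijective fun (v : ι → V) (a : ι) => ∑ i, (u : Matrix ι ι R) a i • v i := by
  have hTT : ∀ (A B : Matrix ι ι R), A * B = 1 → ∀ (v : ι → V) a, (∑ i, A a i • ∑ j, B i j • v j) = v a :=
    fun A B h v a => by
      simp only [Finset.smul_sum, smul_smul]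
      rw [Finset.sum_comm]
      simp only [← Finset.sum_smul, ← Matrix.mul_apply, h, Matrix.one_apply, ite_smul, one_smul, zero_smul,
        Finset.sum_ite_eq, Finset.mem_univ, if_true]
  exact Function.bijective_iff_has_inverse.2
    ⟨fun v a => ∑ i, (↑u⁻¹ : Matrix ι ι R) a i • v i, fun v => funext fun a => hTT _ _ u.inv_mul v a,
      fun v => funext fun a => hTT _ _ u.mul_inv v a⟩

theorem combM_bijective_gal (N : (W4bk4gw11416.baseChange p F).Modules) [Coh.IsQCoh N]
    {U : X.Opens} (hU : IsAffineOpen U) :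
    Function.Bijective fun (z : Γ(pb (bcSq p F).g ((Scheme.Modules.pushforward (bcSq p F).g).obj N), (bcSq p F).g ⁻¹ᵁ U))
      (σ : F ≃ₐ[k] F) => (galComp p F N σ).app ((bcSq p F).g ⁻¹ᵁ U) z := by
  classical
  haveI := isQCoh_pushforward_g p F N
  haveI : Fintype (F ≃ₐ[k] F) := Fintype.ofFinite _
  let e : Module.Basis (ULift.{u} (Fin (Module.finrank k F))) k F := (Module.finBasis k F).reindex Equiv.ulift.symm
  let t : (F ≃ₐ[k] F) ≃ ULift.{u} (Fin (Module.finrank k F)) := (Fintype.equivFinOfCardEq (by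
    rw [← Nat.card_eq_fintype_card, IsGalois.card_aut_eq_finrank])).trans Equiv.ulift.symm
  let cY := (bcSq p F).cY ((bcSq p F).g ⁻¹ᵁ U)
  letI : Module F Γ(N, (bcSq p F).g ⁻¹ᵁ U) := Module.compHom _ cY
  obtain ⟨u, hu⟩ := galMatrix_isUnit F e t
  rw [← Function.Bijective.of_comp_iff _ (combM_bijective (bcSq p F) e _ hU)]
  let R := fun (w : ∀ σ : F ≃ₐ[k] F, Γ((Scheme.Modules.pushforward (galAct p F σ)).obj N, (bcSq p F).g ⁻¹ᵁ U)) (a : ULift.{u} (Fin (Module.finrank k F))) =>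
    galR p F N (t.symm a) U (w (t.symm a))
  have hpi : Function.Bijective R := by
    refine ⟨fun w w' h => funext fun σ => (galR_bijective p F N σ U).1 ?_, fun v => ?_⟩
    · obtain ⟨a, rfl⟩ : ∃ a, t.symm a = σ := ⟨t σ, t.symm_apply_apply σ⟩
      exact congrFun h a
    · choose w hw using fun σ : F ≃ₐ[k] F => (galR_bijective p F N σ U).2 (v (t σ))
      exact ⟨w, funext fun a => by simp only [R, hw, Equiv.apply_symm_apply]⟩
  rw [← Function.Bijective.of_comp_iff' hpi]
  have heq : R ∘ ((fun (z : Γ(pb (bcSq p F).g ((Scheme.Modules.pushforward (bcSq p F).g).obj N), (bcSq p F).g ⁻¹ᵁ U))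
      (σ : F ≃ₐ[k] F) => (galComp p F N σ).app ((bcSq p F).g ⁻¹ᵁ U) z) ∘ combM (bcSq p F) e _ U) =
      (fun (v : ULift.{u} (Fin (Module.finrank k F)) → Γ(N, (bcSq p F).g ⁻¹ᵁ U)) a => ∑ i, (u : Matrix _ _ F) a i • v i) ∘
        (Finsupp.equivFunOnFinite : (ULift.{u} (Fin (Module.finrank k F)) →₀ Γ(N, (bcSq p F).g ⁻¹ᵁ U)) ≃ _) := by
    funext b a
    simp only [R, Function.comp_apply, hu, Matrix.of_apply]
    exact galR_combM p F e N (t.symm a) U b
  rw [heq]
  exact (matrix_bijective u).comp (Equiv.bijective _)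

/-- A module is zero-free under affine covers. -/
theorem isIso_of_bijective_cover {Y : Scheme.{u}} {A B : Y.Modules} [Coh.IsQCoh A] [Coh.IsQCoh B] (φ : A ⟶ B)
    (π : Y ⟶ X) [IsAffineHom π] (h : ∀ U : X.Opens, IsAffineOpen U → Function.Bijective (φ.app (π ⁻¹ᵁ U))) :
    IsIso φ :=
  GrTildeLib.isIso_of_bijective_cover φ (fun U : X.affineOpens => π ⁻¹ᵁ U.1) (fun U => U.2.preimage π)
    (by rw [← Scheme.Hom.preimage_iSup, iSup_affineOpens_eq_top X, Scheme.Hom.preimage_top]) fun U => h U.1 U.2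

theorem bijective_biproduct_lift {Y : Scheme.{u}} {d : ℕ} {A : Y.Modules} (B : Fin d → Y.Modules)
    (f : ∀ a, A ⟶ B a) (V : Y.Opens) (h : Function.Bijective fun (z : Γ(A, V)) (a : Fin d) => (f a).app V z) :
    Function.Bijective ((biproduct.lift f).app V) := by
  let ev : (⨁ B ⟶ ⨁ B) →+ (Γ(⨁ B, V) → Γ(⨁ B, V)) := AddMonoidHom.mk' (fun g x => g.app V x) fun g g' => rfl
  have hsum : ∀ z : Γ(⨁ B, V), z = ∑ a, (biproduct.ι B a).app V ((biproduct.π B a).app V z) := fun z => by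
    calc z = ev (∑ a, biproduct.π B a ≫ biproduct.ι B a) z := by rw [biproduct.total]; rfl
      _ = _ := by rw [map_sum, Finset.sum_apply]; rfl
  have hπ : ∀ (a : Fin d) (z : Γ(A, V)), (biproduct.π B a).app V ((biproduct.lift f).app V z) = (f a).app V z :=
    fun a z => congr(Scheme.Modules.Hom.app $(biproduct.lift_π f a) V z)
  refine ⟨fun z z' e => h.1 (funext fun a => ?_), fun w => ?_⟩
  · show (f a).app V z = (f a).app V z'
    rw [← hπ, ← hπ, e]
  · obtain ⟨z, hz⟩ := h.2 fun a => (biproduct.π B a).app V w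
    refine ⟨z, ?_⟩
    rw [hsum ((biproduct.lift f).app V z), hsum w]
    refine Finset.sum_congr rfl fun a _ => congrArg _ ?_
    exact (hπ a z).trans (congrFun hz a)

theorem isQCoh_biproduct_fin {Y : Scheme.{u}} {d : ℕ} (B : Fin d → Y.Modules) (hB : ∀ a, Coh.IsQCoh (B a)) :
    Coh.IsQCoh (⨁ B) := by
  haveI : Coh.IsQCoh (∐ fun a : ULift.{u} (Fin d) => B a.down) := QCohLib.isQCoh_sigma _ fun a => hB _
  exact QCohLib.isQCoh_of_iso (Sigma.whiskerEquiv (Equiv.ulift.{u})
    (f := fun a => B a.down) (g := B) (fun a => Iso.refl _) ≪≫ (biproduct.isoCoproduct B).symm)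

/-- `π^* π_* N` splits into the conjugates of `N`. -/
theorem nonempty_pb_push (N : (W4bk4gw11416.baseChange p F).Modules) (hN : Coh.IsQCoh N) :
    ∃ σ : Fin (Nat.card (F ≃ₐ[k] F)) → (F ≃ₐ[k] F), Nonempty
      (pb (bcSq p F).g ((Scheme.Modules.pushforward (bcSq p F).g).obj N) ≅
        ⨁ fun a => (Scheme.Modules.pushforward (galAct p F (σ a))).obj N) := by
  haveI := hN
  haveI := (bcSq p F).isAffineHom_g
  haveI := isQCoh_pushforward_g p F N
  haveI := KFlatLib.isQCoh_pullback (bcSq p F).g ((Scheme.Modules.pushforward (bcSq p F).g).obj N)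
  let t := (Finite.equivFin (F ≃ₐ[k] F)).symm
  haveI := isQCoh_biproduct_fin (fun a => (Scheme.Modules.pushforward (galAct p F (t a))).obj N)
    fun a => QCohLib.isQCoh_pushforward _ _
  refine ⟨t, ⟨@asIso _ _ _ _ (biproduct.lift fun a => galComp p F N (t a))
    (isIso_of_bijective_cover _ (bcSq p F).g fun U hU => bijective_biproduct_lift _ _ _ ?_)⟩⟩
  exact (Equiv.piCongrLeft' _ t.symm).bijective.comp (combM_bijective_gal p F N hU)

/-- The direct image along a finite base field extension of a locally free module is locally free. -/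
theorem isFinLocFree_push [IsProper p] (N : (W4bk4gw11416.baseChange p F).Modules) (hN : FlatMod.IsFinLocFree N) :
    FlatMod.IsFinLocFree ((Scheme.Modules.pushforward (bcSq p F).g).obj N) := by
  letI : X.Over (Spec (CommRingCat.of k)) := ⟨p⟩
  haveI : IsProper (X ↘ Spec (CommRingCat.of k)) := ‹IsProper p›
  haveI := CurvLib.isNoetherian k (X := X)
  let g := (bcSq p F).g
  haveI := (bcSq p F).flat_g
  haveI : IsFinite (Spec.map (CommRingCat.ofHom (algebraMap k F))) :=
    (IsFinite.SpecMap_iff _).2 (RingHom.finite_algebraMap.2 inferInstance)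
  haveI : IsFinite g := MorphismProperty.of_isPullback (P := @IsFinite) (bcSq p F).sq.flip ‹_›
  haveI : IsLocallyNoetherian (W4bk4gw11416.baseChange p F) := LocallyOfFiniteType.isLocallyNoetherian g
  have hc := QCohLib.isCoh_push_finite g _ (Groth.Agent.PerfLib.isCoh_of_isFinLocFree hN)
  haveI := hc.1
  refine StratLib.isFinLocFree_of_flat_sections _ hc.2 fun y => ?_
  obtain ⟨V, hV, hy, -⟩ := exists_isAffineOpen_mem_and_subset (show y ∈ (⊤ : X.Opens) from trivial)
  refine ⟨V, hV, hy, ?_⟩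
  letI : Algebra Γ(X, V) Γ(W4bk4gw11416.baseChange p F, g ⁻¹ᵁ V) := (g.app V).hom.toAlgebra
  have hflat : (g.app V).hom.Flat := by
    have := Flat.flat_appLE g hV (hV.preimage g) le_rfl
    rwa [← Scheme.Hom.app_eq_appLE] at this
  haveI : Module.Flat Γ(X, V) Γ(W4bk4gw11416.baseChange p F, g ⁻¹ᵁ V) := hflat
  letI : Module Γ(X, V) Γ(N, g ⁻¹ᵁ V) := Module.compHom _ (g.app V).hom
  haveI : IsScalarTower Γ(X, V) Γ(W4bk4gw11416.baseChange p F, g ⁻¹ᵁ V) Γ(N, g ⁻¹ᵁ V) :=
    IsScalarTower.of_algebraMap_smul fun _ _ => rfl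
  haveI := CohBCLib.flat_sections_of_isFinLocFree N hN (hV.preimage g)
  haveI : Module.Flat Γ(X, V) Γ(N, g ⁻¹ᵁ V) :=
    Module.Flat.trans Γ(X, V) Γ(W4bk4gw11416.baseChange p F, g ⁻¹ᵁ V) Γ(N, g ⁻¹ᵁ V)
  exact Module.Flat.of_linearEquiv
    ({ AddEquiv.refl Γ(N, g ⁻¹ᵁ V) with map_smul' := fun r x => rfl } :
      Γ((Scheme.Modules.pushforward g).obj N, V) ≃ₗ[Γ(X, V)] Γ(N, g ⁻¹ᵁ V))

end KSMod
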