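import Groth.Agent.KSModLib.TwistAut
import Groth.Agent.KSModLib.GaloisPush
import Groth.Agent.S14209
import Groth.Prelude.Def_BrSev2

/-! Absolutely split bundles on Severi–Brauer varieties. -/

set_option autoImplicit false
set_option linter.style.haveILetI false
universe u

noncomputable section

open CategoryTheory CategoryTheory.Limits AlgebraicGeometry TopologicalSpace Opposite
open KFlatLib (pb)

namespace KSMod

attribute [local instance] Abelian.hasFiniteBiproducts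

section iso

/-- The direct image along an isomorphism is the inverse pullback. -/
def pushIso {Y Z : Scheme.{u}} (g : Y ⟶ Z) [IsIso g] :
    Scheme.Modules.pushforward g ≅ Scheme.Modules.pullback (inv g) :=
  (Scheme.Modules.pullbackPushforwardAdjunction g).rightAdjointUniq
    (CategoryTheory.Equivalence.mk (Scheme.Modules.pullback g) (Scheme.Modules.pullback (inv g))
      (Scheme.Modules.pullbackComp (inv g) g ≪≫ Scheme.Modules.pullbackCongr (IsIso.inv_hom_id g) ≪≫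
        Scheme.Modules.pullbackId Z).symm
      (Scheme.Modules.pullbackComp g (inv g) ≪≫ Scheme.Modules.pullbackCongr (IsIso.hom_inv_id g) ≪≫
        Scheme.Modules.pullbackId Y)).toAdjunction

variable {k : Type u} [Field k]

/-- A retract is a direct summand. -/
theorem exists_biprod_of_retract {C : Type*} [Category C] [Abelian C] {E Y : C} (a : E ⟶ Y) (r : Y ⟶ E)
    (h : a ≫ r = 𝟙 E) : ∃ Z : C, Nonempty (Y ≅ E ⊞ Z) := by
  obtain ⟨W, Z, i, p, j, q, hip, hpi, -, -, ⟨g⟩⟩ := iso_of_split (show (r ≫ a) ≫ r ≫ a = r ≫ a by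
    rw [Category.assoc, reassoc_of% h])
  let w : W ≅ E :=
    { hom := i ≫ r
      inv := a ≫ p
      hom_inv_id := by rw [Category.assoc, ← Category.assoc r a, ← hpi, Category.assoc, hip, Category.comp_id, hip]
      inv_hom_id := by rw [Category.assoc, ← Category.assoc p i, hpi, Category.assoc, reassoc_of% h, h] }
  exact ⟨Z, ⟨g ≪≫ biprod.mapIso w (Iso.refl Z)⟩⟩

end iso

section split

variable {k : Type u} [Field k] {X : Scheme.{u}} {f : X ⟶ Spec (CommRingCat.of k)} {n : ℕ}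

section
variable {K : Type u} [Field K] [Algebra k K] (e : BrSev.Splitting f K n)

theorem pullback_twist_iso (g : BrSev.bc f K ⟶ BrSev.bc f K) [IsIso g] (j : ℤ) :
    Nonempty (pb g (e.twist j) ≅ e.twist j) := by
  let τ := e.iso.inv ≫ g ≫ e.iso.hom
  obtain ⟨t⟩ := pullback_twist K n τ j
  have h : g ≫ e.iso.hom = e.iso.hom ≫ τ := by simp [τ]
  exact ⟨(Scheme.Modules.pullbackComp g e.iso.hom).app _ ≪≫ (Scheme.Modules.pullbackCongr h).app _ ≪≫
    ((Scheme.Modules.pullbackComp e.iso.hom τ).app _).symm ≪≫ (Scheme.Modules.pullback e.iso.hom).mapIso t⟩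

theorem exists_iso_twist {L : (BrSev.bc f K).Modules} (hL : PicF.IsInvertible L) :
    ∃ m : ℤ, Nonempty (L ≅ e.twist m) := by
  obtain ⟨m, ⟨t⟩⟩ := PicPnLib.exists_twist n K (M := pb e.iso.inv L) (AmpleDevLib.isInvertible_pb e.iso.inv hL)
  exact ⟨m, PicPnLib.iso_of_pb_iso e.iso.inv (t ≪≫
    ((Scheme.Modules.pullbackId _).app _).symm ≪≫ ((Scheme.Modules.pullbackCongr e.iso.inv_hom_id).app _).symm ≪≫
    ((Scheme.Modules.pullbackComp e.iso.inv e.iso.hom).app _).symm)⟩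

theorem isInvertible_twist (j : ℤ) : PicF.IsInvertible (e.twist j) :=
  AmpleDevLib.isInvertible_pb _ (PicPnLib.twist_inv n K j)

variable [IsProper f]

theorem indec_twist (j : ℤ) : Indec (e.twist j) := by
  haveI : IsIntegral (CohB1.ProjSpace n K) := PicPnLib.isIntegral_projSpace n K
  haveI : Nonempty (BrSev.bc f K) := ⟨e.iso.inv (Classical.arbitrary _)⟩
  haveI : IsIntegral (BrSev.bc f K) := isIntegral_of_isOpenImmersion e.iso.hom
  haveI : IsProper (BrSev.bcTo f K) := MorphismProperty.pullback_snd _ _ ‹IsProper f›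
  exact indec_invertible (BrSev.bcTo f K) (isInvertible_twist e j)

end

variable {F : Type u} [Field F] [Algebra k F] {K : Type u} [Field K] [Algebra k K] [Algebra F K] [IsScalarTower k F K]

variable (f F K) in
/-- The projection between the base changes. -/
def bcUp : BrSev.bc f K ⟶ BrSev.bc f F :=
  pullback.lift (BrSev.proj f K) (BrSev.bcTo f K ≫ Spec.map (CommRingCat.ofHom (algebraMap F K))) (by
    rw [Category.assoc, ← Spec.map_comp, ← CommRingCat.ofHom_comp, ← IsScalarTower.algebraMap_eq]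
    exact pullback.condition)

theorem pullback_twist_bcUp (e : BrSev.Splitting f K n) (e' : BrSev.Splitting f F n) (j : ℤ) :
    Nonempty (pb (bcUp f F K) (e'.twist j) ≅ e.twist j) := by
  obtain ⟨qF, hqF, hdF⟩ := PicPnLib.exists_map n F
  obtain ⟨qK, hqK, hdK⟩ := PicPnLib.exists_map n K
  have sq : IsPullback (bcUp f F K) (BrSev.bcTo f K) (BrSev.bcTo f F)
      (Spec.map (CommRingCat.ofHom (algebraMap F K))) := by
    refine IsPullback.of_right (t := IsPullback.of_hasPullback _ _) ?_ (pullback.lift_snd _ _ _)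
    rw [show bcUp f F K ≫ pullback.fst _ _ = BrSev.proj f K from pullback.lift_fst _ _ _,
      ← Spec.map_comp, ← CommRingCat.ofHom_comp, ← IsScalarTower.algebraMap_eq]
    exact IsPullback.of_hasPullback _ _
  let m := e.iso.inv ≫ bcUp f F K ≫ e'.iso.hom
  have sqm : IsPullback m (CohB1.ProjSpace.toSpec n K) (CohB1.ProjSpace.toSpec n F)
      (Spec.map (CommRingCat.ofHom (algebraMap F K))) :=
    IsPullback.of_iso sq e.iso e'.iso (Iso.refl _) (Iso.refl _)
      (by simp [m]) (by simp [e.comm]) (by simp [e'.comm]) (by simp)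
  have sqz := sqm.paste_horiz hqF
  rw [specULiftZIsTerminal.hom_ext (Spec.map (CommRingCat.ofHom (algebraMap F K)) ≫ specULiftZIsTerminal.from _)
    (specULiftZIsTerminal.from _)] at sqz
  let τ := (sqz.isoIsPullback _ _ hqK).hom
  have hτ : τ ≫ qK = m ≫ qF := sqz.isoIsPullback_hom_fst _ _ hqK
  obtain ⟨t⟩ := pullback_twist K n τ j
  have h : bcUp f F K ≫ e'.iso.hom = e.iso.hom ≫ m := by simp [m]
  exact ⟨(Scheme.Modules.pullbackComp (bcUp f F K) e'.iso.hom).app _ ≪≫ (Scheme.Modules.pullbackCongr h).app _ ≪≫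
    ((Scheme.Modules.pullbackComp e.iso.hom m).app _).symm ≪≫ (Scheme.Modules.pullback e.iso.hom).mapIso
      ((Scheme.Modules.pullback m).mapIso (hdF j).some.symm ≪≫ (Scheme.Modules.pullbackComp m qF).app _ ≪≫
        (Scheme.Modules.pullbackCongr hτ.symm).app _ ≪≫ ((Scheme.Modules.pullbackComp τ qK).app _).symm ≪≫
        (Scheme.Modules.pullback τ).mapIso (hdK j).some ≪≫ t)⟩

variable [FiniteDimensional k F] [IsGalois k F] [IsProper f]

theorem exists_twPow (e : BrSev.Splitting f K n) (e' : BrSev.Splitting f F n) :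
    ∃ d : ℕ, 0 < d ∧ ∀ j : ℤ, ∃ M : X.Modules, FlatMod.IsFinLocFree M ∧ BrSev.IsTwPow e j d M := by
  have hlf : ∀ j, FlatMod.IsFinLocFree (e'.twist j) := fun j =>
    AmpleDevLib.isFinLocFree_of_isInvertible (isInvertible_twist e' j)
  refine ⟨Nat.card (F ≃ₐ[k] F), Nat.card_pos, fun j =>
    ⟨(Scheme.Modules.pushforward (bcSq f F).g).obj (e'.twist j), isFinLocFree_push f F _ (hlf j), ?_⟩⟩
  obtain ⟨σ, ⟨t⟩⟩ := nonempty_pb_push f F (e'.twist j) (Groth.Agent.PerfLib.isCoh_of_isFinLocFree (hlf j)).1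
  have hs : ∀ a, Nonempty ((Scheme.Modules.pushforward (W4c1astiltbs12.galAct f F (σ a))).obj (e'.twist j) ≅ e'.twist j) :=
    fun a => ⟨(pushIso _).app _ ≪≫ (pullback_twist_iso e' (inv (W4c1astiltbs12.galAct f F (σ a))) j).some⟩
  let P := Scheme.Modules.pullback (bcUp f F K)
  exact ⟨((Scheme.Modules.pullbackCongr (show bcUp f F K ≫ (bcSq f F).g = BrSev.proj f K from pullback.lift_fst _ _ _)).app _).symm ≪≫
    ((Scheme.Modules.pullbackComp (bcUp f F K) (bcSq f F).g).app _).symm ≪≫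
    P.mapIso (t ≪≫ biproduct.mapIso (fun a => (hs a).some) ≪≫ biproduct.isoCoproduct _) ≪≫
    PreservesCoproduct.iso P _ ≪≫ Sigma.mapIso fun _ => (pullback_twist_bcUp e e' j).some⟩

end split

section main

variable {k : Type u} [Field k] {X : Scheme.{u}} {f : X ⟶ Spec (CommRingCat.of k)} [IsProper f] {n : ℕ}
  {K : Type u} [Field K] [Algebra k K] (e : BrSev.Splitting f K n)

theorem isTwPow_of_retract (hex : ∃ d : ℕ, 0 < d ∧ ∀ j : ℤ, ∃ M : X.Modules, FlatMod.IsFinLocFree M ∧ BrSev.IsTwPow e j d M)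
    {E : X.Modules} (hE : FlatMod.IsFinLocFree E) {s : ℕ} (Ls : Fin s → (BrSev.bc f K).Modules)
    (hLs : ∀ i, PicF.IsInvertible (Ls i)) (hsplit : BrSev.bcMod f K E ≅ ∐ Ls)
    {M : X.Modules} (hMi : Indec M) (a : M ⟶ E) (r : E ⟶ M) (har : a ≫ r = 𝟙 M) :
    ∃ (j : ℤ) (m : ℕ), 0 < m ∧ BrSev.IsTwPow e j m M := by
  letI : X.Over (Spec (CommRingCat.of k)) := ⟨f⟩
  haveI : IsProper (X ↘ Spec (CommRingCat.of k)) := ‹IsProper f›
  haveI := CurvLib.isNoetherian k (X := X)
  letI : (BrSev.bc f K).Over (Spec (CommRingCat.of K)) := ⟨BrSev.bcTo f K⟩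
  haveI : IsProper (BrSev.bc f K ↘ Spec (CommRingCat.of K)) :=
    inferInstanceAs (IsProper (pullback.snd f (Spec.map (CommRingCat.ofHom (algebraMap k K)))))
  let P := Scheme.Modules.pullback (BrSev.proj f K)
  have hEc := Groth.Agent.PerfLib.isCoh_of_isFinLocFree hE
  have hMc := isCoh_of_retract a r har hEc
  haveI := hMc.1
  obtain ⟨d, hd, hex⟩ := hex
  choose ms hms using fun i => exists_iso_twist e (hLs i)
  choose Ys hYlf hYt using fun i : Fin s => hex (ms i)
  have hYc := fun i => Groth.Agent.PerfLib.isCoh_of_isFinLocFree (hYlf i)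
  have hcpow : Coh.IsCoh (∐ fun _ : Fin d => E) :=
    QCohLib.isCoh_of_iso (biproduct.isoCoproduct _) (CurveSDLib.isCoh_biproduct fun _ => hEc)
  have hcsum : Coh.IsCoh (∐ Ys) := QCohLib.isCoh_of_iso (biproduct.isoCoproduct _) (CurveSDLib.isCoh_biproduct hYc)
  let T := fun i : Fin s => e.twist (ms i)
  obtain ⟨Φ⟩ := noetherDeuring' f K hcpow hcsum
    (PreservesCoproduct.iso P _ ≪≫ (Sigma.mapIso fun _ => hsplit ≪≫ Sigma.mapIso fun i => (hms i).some) ≪≫
      sigmaSigmaIso (fun _ : Fin d => Fin s) (fun _ i => T i) ≪≫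
      Sigma.whiskerEquiv (f := fun q : (_ : Fin d) × Fin s => T q.2) (g := fun q : (_ : Fin s) × Fin d => T q.1) (((Equiv.sigmaEquivProd (Fin d) (Fin s)).trans (Equiv.prodComm _ _)).trans
        (Equiv.sigmaEquivProd (Fin s) (Fin d)).symm) (fun _ => Iso.refl _) ≪≫
      (sigmaSigmaIso (fun _ : Fin s => Fin d) (fun i _ => T i)).symm ≪≫
      (Sigma.mapIso fun i => (hYt i).some.symm) ≪≫ (PreservesCoproduct.iso P Ys).symm)
  let Ψ := biproduct.isoCoproduct _ ≪≫ Φ ≪≫ (biproduct.isoCoproduct Ys).symm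
  let i₀ : Fin d := ⟨0, hd⟩
  let u := fun i : Fin s => a ≫ biproduct.ι (fun _ : Fin d => E) i₀ ≫ Ψ.hom ≫ biproduct.π Ys i
  let v := fun i : Fin s => biproduct.ι Ys i ≫ Ψ.inv ≫ biproduct.π (fun _ : Fin d => E) i₀ ≫ r
  have hsum : (∑ i, u i ≫ v i) = 𝟙 M := by
    calc (∑ i, u i ≫ v i) = a ≫ biproduct.ι (fun _ : Fin d => E) i₀ ≫ Ψ.hom ≫
          (∑ i, biproduct.π Ys i ≫ biproduct.ι Ys i) ≫ Ψ.inv ≫ biproduct.π (fun _ : Fin d => E) i₀ ≫ r := by
          simp only [u, v, Preadditive.sum_comp, Preadditive.comp_sum, Category.assoc]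
      _ = 𝟙 M := by
        rw [biproduct.total, Category.id_comp, Ψ.hom_inv_id_assoc, biproduct.ι_π_self_assoc, har]
  haveI := finite_hom (k := k) hMc hMc
  obtain ⟨i, -, hi⟩ := exists_isIso_of_sum (k := k) hMi Finset.univ (fun i => u i ≫ v i) (by rw [hsum]; infer_instance)
  haveI := hi
  obtain ⟨Z, ⟨g⟩⟩ := exists_biprod_of_retract (u i) (v i ≫ inv (u i ≫ v i)) (by rw [← Category.assoc, IsIso.hom_inv_id])
  haveI : PreservesBinaryBiproducts P := preservesBinaryBiproducts_of_preservesBinaryCoproducts P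
  obtain ⟨m, ⟨t⟩⟩ := summand_pow (k := K) (ConsLib.isCoh_pullback (BrSev.proj f K) (hYc i)) (indec_twist e (ms i))
    (P.mapIso g ≪≫ P.mapBiprod _ _) (hYt i).some
  refine ⟨ms i, m, Nat.pos_of_ne_zero fun h0 => ?_, ⟨t⟩⟩
  subst h0
  exact hMi.1 (isZero_of_isZero_pb (bcSq f K) ((isZero_pow_zero (e.twist (ms i))).of_iso t))

theorem absSplit_decomp (hex : ∃ d : ℕ, 0 < d ∧ ∀ j : ℤ, ∃ M : X.Modules, FlatMod.IsFinLocFree M ∧ BrSev.IsTwPow e j d M)
    {E : X.Modules} (hE : FlatMod.IsFinLocFree E) {s : ℕ} (Ls : Fin s → (BrSev.bc f K).Modules)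
    (hLs : ∀ i, PicF.IsInvertible (Ls i)) (hsplit : BrSev.bcMod f K E ≅ ∐ Ls) :
    ∃ (t : ℕ) (Ms : Fin t → X.Modules) (js : Fin t → ℤ) (rs : Fin t → ℕ),
      (∀ i, FlatMod.IsFinLocFree (Ms i) ∧ Indec (Ms i) ∧ 0 < rs i ∧ BrSev.IsTwPow e (js i) (rs i) (Ms i)) ∧
      Nonempty (E ≅ ∐ Ms) := by
  letI : X.Over (Spec (CommRingCat.of k)) := ⟨f⟩
  haveI : IsProper (X ↘ Spec (CommRingCat.of k)) := ‹IsProper f›
  haveI := CurvLib.isNoetherian k (X := X)
  have hEc := Groth.Agent.PerfLib.isCoh_of_isFinLocFree hE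
  haveI := finite_hom (k := k) hEc hEc
  obtain ⟨t, Ms, hMi, -, ⟨eE⟩⟩ := exists_decomp (k := k) E
  choose js rs hr ht using fun i => isTwPow_of_retract e hex hE Ls hLs hsplit (hMi i)
    (biproduct.ι Ms i ≫ eE.inv) (eE.hom ≫ biproduct.π Ms i) (by simp)
  exact ⟨t, Ms, js, rs, fun i => ⟨isFinLocFree_of_retract (biproduct.ι Ms i ≫ eE.inv) (eE.hom ≫ biproduct.π Ms i)
    (by simp) hE, hMi i, hr i, ht i⟩, ⟨eE ≪≫ biproduct.isoCoproduct Ms⟩⟩

theorem exists_twPow_of_isSBOf (A : Type u) [Ring A] [Algebra k A] [Algebra.IsCentral k A] [IsSimpleRing A] {N : ℕ}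
    (hN : 0 < N) (hA : Module.finrank k A = N * N) (hX : BrSev.IsSBOf k A (N * N - N) f) [IsAlgClosure k K]
    (e : BrSev.Splitting f K (N - 1)) :
    ∃ d : ℕ, 0 < d ∧ ∀ j : ℤ, ∃ M : X.Modules, FlatMod.IsFinLocFree M ∧ BrSev.IsTwPow e j d M := by
  obtain ⟨F, _, _, hfin, hgal, ⟨e'⟩⟩ := Groth.Agent.S14209.result k A N hN hA f hX
  haveI := hfin; haveI := hgal
  haveI : IsAlgClosed K := IsAlgClosure.isAlgClosed k
  let ι : F →ₐ[k] K := IsAlgClosed.lift
  letI : Algebra F K := ι.toRingHom.toAlgebra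
  haveI : IsScalarTower k F K := IsScalarTower.of_algebraMap_eq fun x => (ι.commutes x).symm
  exact exists_twPow e e'

end main

end KSMod
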