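import Groth.Agent.GLinBCLib.Nat
import Groth.Agent.KFlatLib.AffinePull
import Groth.Agent.EtTwoLib.BasisHom

/-! Coordinates of the pullback of a module to a field extension. -/

set_option autoImplicit false
set_option linter.style.haveILetI false
universe u

noncomputable section

open CategoryTheory CategoryTheory.Limits AlgebraicGeometry TopologicalSpace Opposite TensorProduct
open GLinBCLib KFlatLib

namespace KSMod

variable {k K : Type u} [Field k] [Field K] [Algebra k K] {X Y : Scheme.{u}} (β : BC k K X Y)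
  {ι : Type u} (e : Module.Basis ι k K)

theorem preimage_affine {U : X.Opens} (hU : IsAffineOpen U) : IsAffineOpen (β.g ⁻¹ᵁ U) :=
  haveI := β.isAffineHom_g
  hU.preimage β.g

theorem puSec_add (M : X.Modules) {U : X.Opens} (a b : Γ(M, U)) :
    puSec β.g (a + b) = puSec β.g a + puSec β.g b :=
  map_add (((Scheme.Modules.pullbackPushforwardAdjunction β.g).unit.app M).app U).hom a b

theorem puSec_zero (M : X.Modules) (U : X.Opens) : puSec β.g (0 : Γ(M, U)) = 0 :=
  map_zero (((Scheme.Modules.pullbackPushforwardAdjunction β.g).unit.app M).app U).hom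

theorem puSec_map (M : X.Modules) {U V : X.Opens} (h : V ≤ U) (m : Γ(M, U)) :
    (pb β.g M).presheaf.map (homOfLE (β.g.preimage_mono h)).op (puSec β.g m) =
      puSec β.g (M.presheaf.map (homOfLE h).op m) :=
  (QCohLib.app_map ((Scheme.Modules.pullbackPushforwardAdjunction β.g).unit.app M) (homOfLE h) m).symm

/-- The combination of pullbacks of sections with the basis constants as coefficients. -/
def combM (M : X.Modules) (U : X.Opens) (b : ι →₀ Γ(M, U)) : Γ(pb β.g M, β.g ⁻¹ᵁ U) :=
  b.sum fun i m => β.cY (β.g ⁻¹ᵁ U) (e i) • puSec β.g m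

open scoped Classical in
theorem combM_add (M : X.Modules) (U : X.Opens) (b b' : ι →₀ Γ(M, U)) :
    combM β e M U (b + b') = combM β e M U b + combM β e M U b' :=
  Finsupp.sum_add_index (fun i _ => by rw [puSec_zero, smul_zero]) fun i _ m m' => by rw [puSec_add, smul_add]

theorem combM_smul (M : X.Modules) (U : X.Opens) (r : Γ(X, U)) (b : ι →₀ Γ(M, U)) :
    combM β e M U (r • b) = β.g.app U r • combM β e M U b := by
  unfold combM
  rw [Finsupp.sum_smul_index' (fun i => by rw [puSec_zero, smul_zero]), Finsupp.smul_sum]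
  refine Finsupp.sum_congr fun i _ => ?_
  rw [puSec_smul, smul_comm]

theorem combM_map (M : X.Modules) {U V : X.Opens} (h : V ≤ U) (b : ι →₀ Γ(M, U)) :
    (pb β.g M).presheaf.map (homOfLE (β.g.preimage_mono h)).op (combM β e M U b) =
      combM β e M V (b.mapRange (M.presheaf.map (homOfLE h).op) (map_zero _)) := by
  unfold combM
  rw [map_finsuppSum, Finsupp.sum_mapRange_index (fun i => by rw [puSec_zero, smul_zero])]
  refine Finsupp.sum_congr fun i _ => ?_
  refine (Scheme.Modules.map_smul (pb β.g M) (homOfLE (β.g.preimage_mono h)) _ _).trans ?_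
  exact congrArg₂ (· • ·) (β.rs_cY _ _) (puSec_map β M h _)

theorem combM_bijective (M : X.Modules) [Coh.IsQCoh M] {U : X.Opens} (hU : IsAffineOpen U) :
    Function.Bijective (combM β e M U) := by
  classical
  let hc := hU.isCompact
  let hs := hU.isQuasiSeparated
  letI : Algebra Γ(X, U) Γ(Y, β.g ⁻¹ᵁ U) := (β.g.app U).hom.toAlgebra
  letI : Module Γ(X, U) Γ(pb β.g M, β.g ⁻¹ᵁ U) := Module.compHom _ (algebraMap Γ(X, U) Γ(Y, β.g ⁻¹ᵁ U))
  haveI : IsScalarTower Γ(X, U) Γ(Y, β.g ⁻¹ᵁ U) Γ(pb β.g M, β.g ⁻¹ᵁ U) :=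
    IsScalarTower.of_algebraMap_smul fun _ _ => rfl
  let ψ : Γ(M, U) →ₗ[Γ(X, U)] Γ(pb β.g M, β.g ⁻¹ᵁ U) :=
    { toFun := fun m => puSec β.g m
      map_add' := puSec_add β M
      map_smul' := fun r m => puSec_smul β.g r m }
  have hψ : IsBaseChange Γ(Y, β.g ⁻¹ᵁ U) ψ := by
    refine isBaseChange_puSec β.g M hU (preimage_affine β hU) le_rfl (fun r => ?_) ψ fun m => ?_
    · show β.g.app U r = _
      rw [Scheme.Hom.appLE]
      simp
    · rw [puSecLE_apply]
      exact (congr($((pb β.g M).presheaf.map_id (op (β.g ⁻¹ᵁ U))) (puSec β.g m))).symm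
  let B : (ι →₀ Γ(X, U)) →ₗ[Γ(X, U)] Γ(Y, β.g ⁻¹ᵁ U) :=
    Finsupp.linearCombination Γ(X, U) fun i => β.cY _ (e i)
  have hB : ∀ b, B b = β.comb e U b := fun b => Finsupp.linearCombination_apply _ _
  have hBb : Function.Bijective B := ⟨fun b b' h => β.comb_injective e hc hs (by rw [← hB, ← hB, h]),
    fun f => by obtain ⟨b, hb⟩ := β.exists_comb e hc hs f; exact ⟨b, (hB b).trans hb.symm⟩⟩
  let T : (ι →₀ Γ(M, U)) ≃ₗ[Γ(X, U)] Γ(Y, β.g ⁻¹ᵁ U) ⊗[Γ(X, U)] Γ(M, U) :=
    (TensorProduct.finsuppScalarLeft Γ(X, U) Γ(M, U) ι).symm ≪≫ₗ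
      (LinearEquiv.ofBijective B hBb).rTensor Γ(M, U)
  have key : combM β e M U = fun b => hψ.equiv (T b) := by
    funext b
    induction b using Finsupp.induction_linear with
    | zero => simp [combM]
    | add b b' h h' => rw [combM_add, h, h', map_add, map_add]
    | single i m =>
      have hT : T (Finsupp.single i m) = β.cY _ (e i) ⊗ₜ[Γ(X, U)] m := by
        simp [T, B]
      rw [hT, hψ.equiv_tmul]
      unfold combM
      rw [Finsupp.sum_single_index (by rw [puSec_zero, smul_zero])]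
      rfl
  rw [key]
  exact hψ.equiv.bijective.comp T.bijective

/-- The sections of a pullback have the constants of a basis as coordinates. -/
theorem exists_coord {F G : X.Modules} [Coh.IsQCoh G] (φ : pb β.g F ⟶ pb β.g G) :
    ∃ h : ι → (F ⟶ G), ∀ (U : X.Opens), IsAffineOpen U → ∀ m : Γ(F, U), ∃ b : ι →₀ Γ(G, U),
      (∀ i, b i = (h i).app U m) ∧ φ.app (β.g ⁻¹ᵁ U) (puSec β.g m) = combM β e G U b := by
  classical
  have hb := fun (U : X.affineOpens) => combM_bijective β e G U.2
  choose c hc using fun (U : X.affineOpens) (m : Γ(F, U.1)) => (hb U).2 (φ.app (β.g ⁻¹ᵁ U.1) (puSec β.g m))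
  have hadd : ∀ (U : X.affineOpens) m m', c U (m + m') = c U m + c U m' := fun U m m' => (hb U).1 (by
    rw [combM_add, hc, hc, hc, puSec_add, map_add])
  have hsmul : ∀ (U : X.affineOpens) r m, c U (r • m) = r • c U m := fun U r m => (hb U).1 (by
    rw [combM_smul, hc, hc, puSec_smul, Scheme.Modules.Hom.app_smul])
  have hres : ∀ (U V : X.affineOpens) (h : V.1 ≤ U.1) (m : Γ(F, U.1)),
      c V (F.presheaf.map (homOfLE h).op m) = (c U m).mapRange (G.presheaf.map (homOfLE h).op) (map_zero _) :=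
    fun U V h m => (hb V).1 (by
      rw [hc, ← combM_map, hc, ← puSec_map β F h]
      exact QCohLib.app_map φ (homOfLE (β.g.preimage_mono h)) _)
  choose h hh using fun i : ι => EtTwoLib.exists_hom_of_basis (E := F) (P := G)
    (fun U : X.affineOpens => U.1) (by rw [Subtype.range_coe]; exact X.isBasis_affineOpens)
    (fun U => AddMonoidHom.mk' (fun m => c U m i) fun m m' => by rw [hadd]; rfl)
    (fun U V hle m => by
      show G.presheaf.map (homOfLE hle).op (c U m i) = c V (F.presheaf.map (homOfLE hle).op m) i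
      rw [hres, Finsupp.mapRange_apply])
    (fun U r m => by
      show c U (r • m) i = r • c U m i
      rw [hsmul]; rfl)
  exact ⟨h, fun U hU m => ⟨c ⟨U, hU⟩ m, fun i => (hh i ⟨U, hU⟩ m).symm, (hc ⟨U, hU⟩ m).symm⟩⟩

end KSMod
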