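import Groth.Agent.KSModLib.Decomp
import Groth.Agent.VBPnLib.Basic

/-! Krull–Schmidt for coherent modules on a proper scheme. -/

set_option autoImplicit false
set_option linter.style.haveILetI false
universe u

noncomputable section

open CategoryTheory CategoryTheory.Limits AlgebraicGeometry

namespace KSMod

attribute [local instance] Abelian.hasFiniteBiproducts

variable {X : Scheme.{u}} {k : Type u} [Field k] [X.Over (Spec (CommRingCat.of k))]
  [IsProper (X ↘ Spec (CommRingCat.of k))]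

/-- Homomorphisms of coherent modules on a proper scheme form a finite dimensional space. -/
theorem finite_hom {M P : X.Modules} (hM : Coh.IsCoh M) (hP : Coh.IsCoh P) : Module.Finite k (M ⟶ P) := by
  haveI := CurvLib.isNoetherian k (X := X)
  have hc : Coh.IsCoh (CohCmpLib.homMod M P) := HomCohLib.isCoh_homMod hM hP
  haveI := CurvLib.finite_HH (k := k) hc 0
  haveI : Module.Finite k (Coh.structureModule X ⟶ CohCmpLib.homMod M P) :=
    Module.Finite.equiv (GenusOneSSLib.homEquiv (k := k) _).symm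
  exact Module.Finite.of_surjective (VBPnLib.shL (k := k) M P) (VBPnLib.shL_surjective M P)

include k in
theorem coherent_krullSchmidt {F : X.Modules} (hF : Coh.IsCoh F) :
    (∃ (n : ℕ) (Fs : Fin n → X.Modules), (∀ i, Indec (Fs i)) ∧ Nonempty (F ≅ ∐ Fs)) ∧
    (∀ (n m : ℕ) (Fs : Fin n → X.Modules) (Gs : Fin m → X.Modules), (∀ i, Indec (Fs i)) → (∀ j, Indec (Gs j)) →
      Nonempty (F ≅ ∐ Fs) → Nonempty (F ≅ ∐ Gs) → ∃ e : Fin n ≃ Fin m, ∀ i, Nonempty (Fs i ≅ Gs (e i))) := by
  haveI := finite_hom (k := k) hF hF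
  refine ⟨?_, fun n m Fs Gs hFs hGs ⟨a⟩ ⟨b⟩ => ?_⟩
  · obtain ⟨n, Fs, h, -, ⟨e⟩⟩ := exists_decomp (k := k) F
    exact ⟨n, Fs, h, ⟨e ≪≫ biproduct.isoCoproduct Fs⟩⟩
  let a' : F ≅ ⨁ Fs := a ≪≫ (biproduct.isoCoproduct Fs).symm
  refine unique_decomp (k := k) n m Fs Gs hFs hGs (fun i => ?_)
    (a'.symm ≪≫ b ≪≫ (biproduct.isoCoproduct Gs).symm)
  rcases n with _ | n
  · exact i.elim0
  exact (finite_end_of_biprod (k := k) (a' ≪≫ splitOff Fs i)).1

end KSMod
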