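import Groth.Agent.KSModLib.Coord
import Groth.Agent.KSModLib.Coherent
import Groth.Agent.ConsLib.ModLoci
import Groth.Agent.KFlatLib.QCohTerms

/-! The Noether–Deuring theorem for coherent modules on proper schemes. -/

set_option autoImplicit false
set_option linter.style.haveILetI false
universe u

noncomputable section

open CategoryTheory CategoryTheory.Limits AlgebraicGeometry TopologicalSpace Opposite
open GLinBCLib KFlatLib

namespace KSMod

attribute [local instance] Abelian.hasFiniteBiproducts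

variable {k K : Type u} [Field k] [Field K] [Algebra k K] {X Y : Scheme.{u}} (β : BC k K X Y)

/-- A module whose pullback to a field extension has no nonzero sections on affine opens vanishes. -/
theorem isZero_of_isZero_pb {M : X.Modules} [Coh.IsQCoh M] (h : IsZero (pb β.g M)) : IsZero M := by
  haveI : IsIso (0 : M ⟶ M) := QCohLib.isIso_of_bijective_affine _ fun U hU => by
    haveI : Subsingleton Γ(pb β.g M, β.g ⁻¹ᵁ U) := ⟨fun a b => by
      have ha : ∀ x : Γ(pb β.g M, β.g ⁻¹ᵁ U), x = 0 := fun x =>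
        congr(Scheme.Modules.Hom.app $(h.eq_of_src (𝟙 (pb β.g M)) 0) (β.g ⁻¹ᵁ U) x)
      rw [ha a, ha b]⟩
    have hb := combM_bijective β (Module.Free.chooseBasis k K) M hU
    haveI : Subsingleton Γ(M, U) := ⟨fun a b => by
      have i0 : Nonempty (Module.Free.ChooseBasisIndex k K) := (Module.Free.chooseBasis k K).index_nonempty
      obtain ⟨i⟩ := i0
      exact Finsupp.single_injective i (hb.1 (Subsingleton.elim _ _))⟩
    exact ⟨fun a b _ => Subsingleton.elim a b, fun a => ⟨a, Subsingleton.elim _ _⟩⟩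
  exact (IsZero.iff_id_eq_zero _).2 ((cancel_epi (0 : M ⟶ M)).1 (by simp))

variable [X.Over (Spec (CommRingCat.of k))] [IsProper (X ↘ Spec (CommRingCat.of k))]

/-- A retraction over the extension is witnessed by a retraction over the ground field. -/
theorem exists_isIso_comp {F G : X.Modules} (hF : Coh.IsCoh F) (hG : Coh.IsCoh G) (hFi : Indec F)
    (φ : pb β.g F ⟶ pb β.g G) (ψ : pb β.g G ⟶ pb β.g F) (hφψ : φ ≫ ψ = 𝟙 (pb β.g F)) :
    ∃ (a : F ⟶ G) (b : G ⟶ F), IsIso (a ≫ b) := by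
  classical
  by_contra hcon
  haveI := hF.1
  haveI := hG.1
  haveI := finite_hom (k := k) hF hF
  haveI : Module.Finite k (End F) := ‹Module.Finite k (F ⟶ F)›
  haveI : IsArtinianRing (End F) := IsArtinianRing.of_finite k _
  obtain ⟨N, hN⟩ := IsSemiprimaryRing.isNilpotent (R := End F)
  let e := Module.Free.chooseBasis k K
  obtain ⟨α, hα⟩ := exists_coord β e φ
  obtain ⟨γ, hγ⟩ := exists_coord β e ψ
  have hJ : ∀ i j, (α i ≫ γ j : End F) ∈ Ring.jacobson (End F) := fun i j =>
    nonunit_mem_jacobson (k := k) (idem_end hFi) fun hu =>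
      hcon ⟨α i, γ j, (isUnit_iff_isIso _).1 hu⟩
  refine hFi.1 ?_
  haveI : IsIso (0 : F ⟶ F) := QCohLib.isIso_of_bijective_affine _ fun U hU => by
    let S : ℕ → Submodule Γ(Y, β.g ⁻¹ᵁ U) Γ(pb β.g F, β.g ⁻¹ᵁ U) := fun n =>
      Submodule.span _ {z | ∃ (h : F ⟶ F) (m : Γ(F, U)), (h : End F) ∈ Ring.jacobson (End F) ^ n ∧
        z = puSec β.g (h.app U m)}
    have h1 : ∀ (n : ℕ) (m : Γ(F, U)) (h : F ⟶ F), (h : End F) ∈ Ring.jacobson (End F) ^ n →
        puSec β.g (h.app U m) ∈ S (n + 1) := by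
      intro n m h hh
      obtain ⟨b, hb, hb'⟩ := hα U hU (h.app U m)
      have e1 : puSec β.g (h.app U m) = ψ.app _ (combM β e G U b) := by
        rw [← hb']
        exact (congr(Scheme.Modules.Hom.app $hφψ (β.g ⁻¹ᵁ U) (puSec β.g (h.app U m)))).symm
      rw [e1, combM, map_finsuppSum]
      refine Submodule.sum_mem _ fun i _ => ?_
      dsimp only
      rw [Scheme.Modules.Hom.app_smul]
      refine Submodule.smul_mem _ _ ?_
      obtain ⟨b₂, hb₂, hb₂'⟩ := hγ U hU (b i)
      rw [hb₂', combM]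
      refine Submodule.sum_mem _ fun j _ => Submodule.smul_mem _ _ ?_
      refine Submodule.subset_span ⟨h ≫ α i ≫ γ j, m, ?_, ?_⟩
      · let u : End F := α i ≫ γ j
        let v : End F := h
        show u * v ∈ _
        rw [Ideal.IsTwoSided.pow_succ]
        exact Ideal.mul_mem_mul (hJ i j) hh
      · rw [hb₂, hb]
        rfl
    have h2 : ∀ n, ∀ m : Γ(F, U), puSec β.g m ∈ S n := by
      intro n
      induction n with
      | zero =>
        intro m
        exact Submodule.subset_span ⟨𝟙 F, m, by simp [Submodule.pow_zero, Ideal.one_eq_top], rfl⟩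
      | succ n ih =>
        intro m
        have : S n ≤ S (n + 1) := Submodule.span_le.2 fun z ⟨h, m', hh, hz⟩ => hz ▸ h1 n m' h hh
        exact this (ih m)
    haveI : Subsingleton Γ(F, U) := ⟨fun a b => by
      have hz : ∀ m : Γ(F, U), puSec β.g m = 0 := fun m => by
        have h3 := h2 N m
        have h4 : S N ≤ ⊥ := Submodule.span_le.2 fun z ⟨h, m', hh, hz⟩ => by
          rw [hN] at hh
          have h0 : h = 0 := hh
          rw [hz, h0]
          exact puSec_zero β F U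
        exact h4 h3
      obtain ⟨i⟩ : Nonempty (Module.Free.ChooseBasisIndex k K) := e.index_nonempty
      refine Finsupp.single_injective i ((combM_bijective β e F hU).1 ?_)
      unfold combM
      rw [Finsupp.sum_single_index (by rw [puSec_zero, smul_zero]),
        Finsupp.sum_single_index (by rw [puSec_zero, smul_zero]), hz a, hz b]⟩
    exact ⟨fun a b _ => Subsingleton.elim a b, fun a => ⟨a, Subsingleton.elim _ _⟩⟩
  exact (IsZero.iff_id_eq_zero _).2 ((cancel_epi (0 : F ⟶ F)).1 (by simp))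

omit [IsProper (X ↘ Spec (CommRingCat.of k))] in
theorem isCoh_of_retract {M N : X.Modules} (i : M ⟶ N) (r : N ⟶ M) (h : i ≫ r = 𝟙 M) (hN : Coh.IsCoh N) :
    Coh.IsCoh M := by
  haveI : IsSplitEpi r := IsSplitEpi.mk' ⟨i, h⟩
  exact ⟨KFlatLib.isQCoh_of_retract i r h hN.1, QCohLib.isFT_of_epi r hN.2⟩

theorem isCoh_fst {M A B : X.Modules} (e : M ≅ A ⊞ B) (hM : Coh.IsCoh M) : Coh.IsCoh A :=
  isCoh_of_retract (biprod.inl ≫ e.inv) (e.hom ≫ biprod.fst) (by simp) hM

theorem isCoh_snd {M A B : X.Modules} (e : M ≅ A ⊞ B) (hM : Coh.IsCoh M) : Coh.IsCoh B :=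
  isCoh_of_retract (biprod.inr ≫ e.inv) (e.hom ≫ biprod.snd) (by simp) hM

include k in
/-- Cancellation of a coherent summand. -/
theorem nonempty_iso_of_biprod_coh {M A B : X.Modules} (hM : Coh.IsCoh M) (f : M ⊞ A ≅ M ⊞ B) :
    Nonempty (A ≅ B) := by
  haveI := finite_hom (k := k) hM hM
  obtain ⟨n, Fs, hF, hFf, ⟨eM⟩⟩ := exists_decomp (k := k) M
  suffices ∀ (n : ℕ) (Fs : Fin n → X.Modules), (∀ i, Indec (Fs i)) → (∀ i, Module.Finite k (Fs i ⟶ Fs i)) →
      ∀ {A B : X.Modules}, ((⨁ Fs) ⊞ A ≅ (⨁ Fs) ⊞ B) → Nonempty (A ≅ B) from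
    this n Fs hF hFf ((biprod.mapIso eM.symm (Iso.refl A)) ≪≫ f ≪≫ biprod.mapIso eM (Iso.refl B))
  intro n
  induction n with
  | zero =>
    intro Fs _ _ A B f
    have hz := isZero_of_isEmpty Fs
    let z : ∀ C : X.Modules, (⨁ Fs) ⊞ C ≅ C := fun C =>
      { hom := biprod.snd
        inv := biprod.inr
        hom_inv_id := biprod.hom_ext _ _ (hz.eq_of_tgt _ _) (by simp) }
    exact ⟨(z A).symm ≪≫ f ≪≫ z B⟩
  | succ n ih =>
    intro Fs hF hFf A B f
    haveI := hFf 0
    obtain ⟨g⟩ := nonempty_iso_of_biprod (k := k) (hF 0)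
      ((biprod.associator _ _ A).symm ≪≫ biprod.mapIso (splitOff Fs 0).symm (Iso.refl A) ≪≫ f ≪≫
        biprod.mapIso (splitOff Fs 0) (Iso.refl B) ≪≫ biprod.associator _ _ B)
    exact ih _ (fun i => hF _) (fun i => hFf _) g

section

attribute [local instance] preservesBinaryBiproduct_of_preservesBinaryCoproduct

variable [Y.Over (Spec (CommRingCat.of K))] [IsProper (Y ↘ Spec (CommRingCat.of K))]

include β in
/-- Noether–Deuring. -/
theorem noetherDeuring {F G : X.Modules} (hF : Coh.IsCoh F) (hG : Coh.IsCoh G) (e : pb β.g F ≅ pb β.g G) :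
    Nonempty (F ≅ G) := by
  haveI := finite_hom (k := k) hF hF
  induction hd : Module.finrank k (F ⟶ F) using Nat.strong_induction_on generalizing F G with
  | _ d ih =>
    haveI := hF.1
    haveI := hG.1
    let P := Scheme.Modules.pullback β.g
    by_cases hz : IsZero F
    · have h1 : IsZero (pb β.g F) := Functor.map_isZero P hz
      exact ⟨hz.iso (isZero_of_isZero_pb β (h1.of_iso e.symm))⟩
    obtain ⟨n, Fs, hFi, hFf, ⟨eF⟩⟩ := exists_decomp (k := k) F
    rcases n with _ | n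
    · exact absurd ((isZero_of_isEmpty Fs).of_iso eF) hz
    let f := eF ≪≫ splitOff Fs 0
    have hF0 := isCoh_fst f hF
    have hF' := isCoh_snd f hF
    obtain ⟨a, b, hab⟩ := exists_isIso_comp β hF0 hG (hFi 0)
      (P.map (biprod.inl ≫ f.inv) ≫ e.hom) (e.inv ≫ P.map (f.hom ≫ biprod.fst))
      (by rw [Category.assoc, e.hom_inv_id_assoc, ← P.map_comp]; simp [P])
    haveI := hab
    let r := b ≫ inv (a ≫ b)
    have har : a ≫ r = 𝟙 (Fs 0) := by rw [← Category.assoc, IsIso.hom_inv_id]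
    obtain ⟨W, Z, i, p, j, q, hip, hpi, -, -, ⟨g⟩⟩ := iso_of_split (show (r ≫ a) ≫ r ≫ a = r ≫ a by
      rw [Category.assoc, reassoc_of% har])
    let w : W ≅ Fs 0 :=
      { hom := i ≫ r
        inv := a ≫ p
        hom_inv_id := by rw [Category.assoc, ← Category.assoc r a, ← hpi, Category.assoc, hip, Category.comp_id, hip]
        inv_hom_id := by rw [Category.assoc, ← Category.assoc p i, hpi, Category.assoc, reassoc_of% har, har] }
    let g' : G ≅ Fs 0 ⊞ Z := g ≪≫ biprod.mapIso w (Iso.refl Z)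
    have hZ := isCoh_snd g' hG
    obtain ⟨t⟩ := nonempty_iso_of_biprod_coh (k := K) (ConsLib.isCoh_pullback β.g hF0)
      ((P.mapBiprod _ _).symm ≪≫ P.mapIso f.symm ≪≫ e ≪≫ P.mapIso g' ≪≫ P.mapBiprod _ _)
    obtain ⟨-, hfin⟩ := finite_end_of_biprod (k := k) f
    have hlt := finrank_end_lt (k := k) (f ≪≫ biprod.braiding _ _) (hFi 0).1
    obtain ⟨s⟩ := ih _ (hd ▸ hlt) hF' hZ t hfin rfl
    exact ⟨f ≪≫ biprod.mapIso (Iso.refl _) s ≪≫ g'.symm⟩

end

end KSMod
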