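import Groth.Agent.KSModLib.Alg
import Groth.Agent.PicPnLib.BaseChange
import Groth.Agent.PicPnLib.UFD
import Groth.Agent.PicPnLib.Rel
import Groth.Agent.CurvLib.Line
import Groth.Agent.AVThetaLib.Scalar
import Groth.Agent.TwistLib.PtApp
import Groth.Agent.PnCohLib.Twist
import Groth.Agent.HomCohLib.FullyFaithful

/-! Twisting sheaves and automorphisms of projective space over a field. -/

set_option autoImplicit false
set_option linter.style.haveILetI false
universe u

noncomputable section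

open CategoryTheory CategoryTheory.Limits AlgebraicGeometry TopologicalSpace Opposite
open KFlatLib (pb)

namespace KSMod

variable {k : Type u} [Field k]

theorem not_isZero_invertible {Y : Scheme.{u}} [Nonempty Y] {L : Y.Modules} (hL : PicF.IsInvertible L) :
    ¬ IsZero L := fun hz => by
  obtain ⟨y⟩ := ‹Nonempty Y›
  obtain ⟨U, e, hy, he⟩ := TwistLib.exists_genOn hL y
  have h : ∀ a : Γ(L, U), a = 0 := fun a => congr(Scheme.Modules.Hom.app $(hz.eq_of_src (𝟙 L) 0) U a)
  have h1 : (1 : Γ(Y, U)) = 0 := (he U le_rfl).1 ((h _).trans (h _).symm)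
  exact one_ne_zero ((map_one (Y.presheaf.germ U y hy).hom).symm.trans
    ((congrArg (Y.presheaf.germ U y hy).hom h1).trans (map_zero _)))

/-- On a proper integral scheme over a field a nonzero endomorphism of an invertible module is invertible. -/
theorem isIso_end_of_ne_zero {Y : Scheme.{u}} [IsIntegral Y] (s : Y ⟶ Spec (CommRingCat.of k)) [UniversallyClosed s]
    {L : Y.Modules} (hL : PicF.IsInvertible L) (φ : L ⟶ L) (hφ : φ ≠ 0) : IsIso φ := by
  obtain ⟨c, hc⟩ := AVThetaLib.exists_eq_smulHom hL φ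
  have hc0 : c ≠ 0 := fun h0 => hφ (by
    rw [hc, h0]
    refine Scheme.Modules.hom_ext _ _ fun U => ConcreteCategory.hom_ext _ _ fun m => ?_
    show (StabLib.smulHom L (0 : Γ(Y, ⊤))).app U m = 0
    rw [StabLib.smulHom_app]
    simp)
  obtain ⟨d, hd⟩ := (isField_of_universallyClosed k s).mul_inv_cancel hc0
  exact ⟨StabLib.smulHom L d, by rw [hc, AVThetaLib.smulHom_mul, mul_comm, hd, AVThetaLib.smulHom_one],
    by rw [hc, AVThetaLib.smulHom_mul, hd, AVThetaLib.smulHom_one]⟩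

theorem indec_invertible {Y : Scheme.{u}} [IsIntegral Y] (s : Y ⟶ Spec (CommRingCat.of k)) [UniversallyClosed s]
    {L : Y.Modules} (hL : PicF.IsInvertible L) : Indec L := by
  refine ⟨not_isZero_invertible hL, fun A B ⟨f⟩ => ?_⟩
  by_cases he : f.hom ≫ biprod.fst ≫ biprod.inl ≫ f.inv = 0
  · left
    refine (IsZero.iff_id_eq_zero A).2 ?_
    calc 𝟙 A = biprod.inl ≫ f.inv ≫ (f.hom ≫ biprod.fst ≫ biprod.inl ≫ f.inv) ≫ f.hom ≫ biprod.fst := by simp
      _ = 0 := by rw [he]; simp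
  · right
    haveI := isIso_end_of_ne_zero s hL _ he
    have h1 : f.hom ≫ biprod.fst ≫ biprod.inl ≫ f.inv = 𝟙 L := by
      rw [← cancel_epi (f.hom ≫ biprod.fst ≫ biprod.inl ≫ f.inv)]
      simp
    refine (IsZero.iff_id_eq_zero B).2 ?_
    calc 𝟙 B = biprod.inr ≫ f.inv ≫ (f.hom ≫ biprod.fst ≫ biprod.inl ≫ f.inv) ≫ f.hom ≫ biprod.snd := by
          rw [h1]; simp
      _ = 0 := by simp

/-- Pullback along an isomorphism reflects zero morphisms. -/
theorem eq_zero_of_pullback_iso {Y Z : Scheme.{u}} (τ : Y ⟶ Z) [IsIso τ] {A B : Z.Modules} (s : A ⟶ B)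
    (h : (Scheme.Modules.pullback τ).map s = 0) : s = 0 := by
  let E : Scheme.Modules.pullback τ ⋙ Scheme.Modules.pullback (inv τ) ≅ 𝟭 Z.Modules :=
    Scheme.Modules.pullbackComp (inv τ) τ ≪≫ Scheme.Modules.pullbackCongr (IsIso.inv_hom_id τ) ≪≫ Scheme.Modules.pullbackId Z
  have h' := E.hom.naturality s
  simp only [Functor.comp_map, h, Functor.map_zero, zero_comp, Functor.id_map] at h'
  rw [← cancel_epi (E.hom.app A)]
  exact h'.symm.trans comp_zero.symm

variable (k) (n : ℕ)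

local notation "P" => CohB1.ProjSpace n k
local notation "O'" => Twist.twistProjSpace n k

theorem exists_section_one : ∃ σ : Γ(O' 1, ⊤), σ ≠ 0 ∧
    (n = 0 → Nonempty (O' 1 ≅ Coh.structureModule P)) := by
  have hX : (MvPolynomial.X 0 : MvPolynomial (Fin (n + 1)) k) ∈ CohB1.polyGrading n k 1 :=
    MvPolynomial.isHomogeneous_X k 0
  haveI : IsIntegral P := PicPnLib.isIntegral_projSpace n k
  have hg := TwistLib.globalOf_genOn (CohB1.polyGrading n k) hX
  skip
  refine ⟨Twist.globalOf (CohB1.polyGrading n k) ⟨_, hX⟩, fun h0 => ?_, fun h0 => PicPnLib.nonempty_iso_of_genAt (Twist.globalOf (CohB1.polyGrading n k) ⟨_, hX⟩) fun x => ?_⟩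
  · have hy := PicPnLib.mem_stdOpen_genPt n k 0
    have hz : AmpleLib.res (Twist.twist (CohB1.polyGrading n k) ((1 : ℕ) : ℤ))
        (le_top : Proj.basicOpen (CohB1.polyGrading n k) (MvPolynomial.X 0 : MvPolynomial (Fin (n + 1)) k) ≤ ⊤)
        (Twist.globalOf (CohB1.polyGrading n k) ⟨_, hX⟩) = 0 := (congrArg _ h0).trans (map_zero _)
    have h1 : (1 : Γ(P, Proj.basicOpen (CohB1.polyGrading n k) (MvPolynomial.X 0 : MvPolynomial (Fin (n + 1)) k))) = 0 := by
      refine (hg _ le_rfl).1 ?_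
      simp only [hz, AmpleLib.res_refl, smul_zero]
    exact one_ne_zero ((map_one ((P).presheaf.germ _ _ hy).hom).symm.trans
      ((congrArg ((P).presheaf.germ _ _ hy).hom h1).trans (map_zero _)))
  · subst h0
    have hx : x ∈ Proj.basicOpen (CohB1.polyGrading 0 k) (MvPolynomial.X 0 : MvPolynomial (Fin 1) k) := by
      obtain ⟨i, hi⟩ := Opens.mem_iSup.mp ((QCohLib.iSup_stdOpen 0 k).ge (Opens.mem_top x))
      obtain rfl : i = 0 := Fin.fin_one_eq_zero i
      exact hi
    have := hg.genAt hx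
    unfold AmpleLib.GenAt at this ⊢
    simp only [AmpleLib.res, TopCat.Presheaf.germ_res_apply] at this
    exact this

/-- Automorphisms of projective space over a field preserve the twisting sheaves. -/
theorem pullback_twist (τ : P ⟶ P) [IsIso τ] (d : ℤ) : Nonempty (pb τ (O' d) ≅ O' d) := by
  let A : ℤ → (P).Modules := fun d => pb τ (O' d)
  have addA : ∀ a b, Nonempty (CohB1.tensorMod (A a) (A b) ≅ A (a + b)) := fun a b =>
    ⟨(PicPnLib.pullTens τ _ _).symm ≪≫ (Scheme.Modules.pullback τ).mapIso (PicPnLib.twist_add n k a b).some⟩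
  have zA : Nonempty (A 0 ≅ Coh.structureModule P) :=
    ⟨(Scheme.Modules.pullback τ).mapIso (PicPnLib.twist_zero n k).some ≪≫ KFlatLib.pullUnitIso τ⟩
  refine PicPnLib.nonempty_iso_family A O' addA zA (PicPnLib.twist_add n k) (PicPnLib.twist_zero n k) ?_ d
  obtain ⟨σ, hσ, hσ0⟩ := exists_section_one k n
  by_cases hn : n = 0
  · exact ⟨(Scheme.Modules.pullback τ).mapIso (hσ0 hn).some ≪≫ KFlatLib.pullUnitIso τ ≪≫ (hσ0 hn).some.symm⟩
  obtain ⟨c, ⟨ec⟩⟩ := PicPnLib.exists_twist n k (M := A 1) (AmpleDevLib.isInvertible_pb τ (PicPnLib.twist_inv n k 1))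
  obtain ⟨c', ⟨ec'⟩⟩ := PicPnLib.exists_twist n k (M := pb (inv τ) (O' 1))
    (AmpleDevLib.isInvertible_pb (inv τ) (PicPnLib.twist_inv n k 1))
  have hfam : ∀ m, Nonempty (A m ≅ O' (c * m)) := fun m =>
    PicPnLib.nonempty_iso_family A (fun m => O' (c * m)) addA zA
      (fun a b => ⟨(PicPnLib.twist_add n k (c * a) (c * b)).some ≪≫ eqToIso (by rw [mul_add])⟩)
      ⟨eqToIso (by rw [mul_zero]) ≪≫ (PicPnLib.twist_zero n k).some⟩ ⟨ec ≪≫ eqToIso (by rw [mul_one])⟩ m
  have e1 : O' 1 ≅ O' (c * c') := ((Scheme.Modules.pullbackId P).app (O' 1)).symm ≪≫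
    ((Scheme.Modules.pullbackCongr (IsIso.hom_inv_id τ)).app (O' 1)).symm ≪≫
    ((Scheme.Modules.pullbackComp τ (inv τ)).app (O' 1)).symm ≪≫
    (Scheme.Modules.pullback τ).mapIso ec' ≪≫ (hfam c').some
  have hcc := PicPnLib.twist_injective n k (Nat.one_le_iff_ne_zero.2 hn) e1
  rcases Int.eq_one_or_neg_one_of_mul_eq_one hcc.symm with h | h
  · exact ⟨ec ≪≫ eqToIso (by rw [h])⟩
  exfalso
  let s : Coh.structureModule P ⟶ O' 1 := (KFlatLib.unitSecEquiv (O' 1)).symm σ
  have hs : s ≠ 0 := fun h0 => hσ (by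
    rw [← (KFlatLib.unitSecEquiv (O' 1)).apply_symm_apply σ]
    show KFlatLib.unitSecEquiv (O' 1) s = 0
    rw [h0]
    rfl)
  refine hs (eq_zero_of_pullback_iso τ s ?_)
  haveI : Subsingleton (Coh.HH P (O' (-1)) 0) :=
    PnCohLib.subsingleton_HH_twist (n := n) (R := k) (-1) 0 (fun h => by omega) (fun h => by omega)
  haveI : Subsingleton Γ(O' (-1), (⊤ : (P).Opens)) := (HomCohLib.hh0 (O' (-1))).symm.injective.subsingleton
  haveI : Subsingleton (Coh.structureModule P ⟶ O' (-1)) := (KFlatLib.unitSecEquiv _).subsingleton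
  have h2 : (KFlatLib.pullUnitIso τ).inv ≫ (Scheme.Modules.pullback τ).map s ≫ (ec ≪≫ eqToIso (by rw [h])).hom =
      (0 : Coh.structureModule P ⟶ O' (-1)) := Subsingleton.elim _ _
  exact (cancel_epi (KFlatLib.pullUnitIso τ).inv).1 ((cancel_mono (ec ≪≫ eqToIso (by rw [h])).hom).1
    (by rw [Category.assoc, h2, comp_zero, zero_comp]))

end KSMod
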