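import Mathlib

/-! The Krull–Schmidt theorem for finite dimensional endomorphism rings. -/

set_option autoImplicit false
universe w v u

open CategoryTheory CategoryTheory.Limits

namespace KSMod

section ring

variable {k : Type w} [Field k] {A : Type v} [Ring A] [Algebra k A] [Module.Finite k A]

include k in
theorem isUnit_or_isNilpotent (h : ∀ e : A, IsIdempotentElem e → e = 0 ∨ e = 1) (a : A) :
    IsUnit a ∨ IsNilpotent a := by
  let S := Algebra.adjoin k ({a} : Set A)
  letI : CommRing S := Algebra.adjoinCommRingOfComm k (by rintro x rfl y rfl; rfl)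
  haveI : Module.Finite k S := inferInstanceAs (Module.Finite k (Subalgebra.toSubmodule S))
  haveI : IsArtinianRing S := isArtinian_of_tower k inferInstance
  let x : S := ⟨a, Algebra.self_mem_adjoin_singleton k a⟩
  obtain ⟨n, y, hy⟩ := IsArtinian.exists_pow_succ_smul_dvd x (1 : S)
  simp only [smul_eq_mul, mul_one] at hy
  have hy' : ∀ m, x ^ (n + m) * y ^ m = x ^ n := fun m => by
    induction m with
    | zero => simp
    | succ m ih =>
      calc x ^ (n + (m + 1)) * y ^ (m + 1) = (x ^ (n + 1) * y) * (x ^ m * y ^ m) := by ring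
        _ = x ^ (n + m) * y ^ m := by rw [hy]; ring
        _ = x ^ n := ih
  let e : S := x ^ n * y ^ n
  have he : IsIdempotentElem e := by
    show e * e = e
    calc e * e = (x ^ (n + n) * y ^ n) * y ^ n := by ring
      _ = e := by rw [hy']
  rcases h (e : A) (congrArg Subtype.val he) with h0 | h1
  · right
    refine ⟨n, ?_⟩
    have : x ^ n = 0 := by
      rw [← hy' n, pow_add, mul_assoc, show x ^ n * y ^ n = (0 : S) from Subtype.ext h0, mul_zero]
    simpa [x] using congrArg Subtype.val this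
  · left
    have h1' : e = 1 := Subtype.ext h1
    rcases n with _ | n
    · have : x * y = 1 := by simpa using hy
      exact (IsUnit.of_mul_eq_one y this).map S.val
    · have : x * (x ^ n * y ^ (n + 1)) = 1 := by rw [← h1']; ring
      exact (IsUnit.of_mul_eq_one _ this).map S.val

include k in
theorem isUnit_or_isUnit_of_add (h : ∀ e : A, IsIdempotentElem e → e = 0 ∨ e = 1) {a b : A}
    (hab : IsUnit (a + b)) : IsUnit a ∨ IsUnit b := by
  obtain ⟨u, hu⟩ := hab
  rcases isUnit_or_isNilpotent (k := k) h (↑u⁻¹ * a) with h1 | h1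
  · exact Or.inl ((Units.isUnit_units_mul u⁻¹ a).1 h1)
  · refine Or.inr ((Units.isUnit_units_mul u⁻¹ b).1 ?_)
    have h2 : ↑u⁻¹ * b = 1 - ↑u⁻¹ * a := by
      rw [eq_sub_iff_add_eq, ← mul_add, add_comm b a, ← hu, Units.inv_mul]
    rw [h2]
    exact h1.isUnit_one_sub

include k in
theorem nonunit_mem_jacobson (h : ∀ e : A, IsIdempotentElem e → e = 0 ∨ e = 1) {a : A} (ha : ¬ IsUnit a) :
    a ∈ Ring.jacobson A := by
  rw [Ring.jacobson, Module.jacobson, Submodule.mem_sInf]
  intro I hI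
  by_contra hm
  have htop : I ⊔ Ideal.span {a} = ⊤ := hI.2 _ (lt_of_le_of_ne le_sup_left fun he => hm
    (he.ge (Submodule.mem_sup_right (Ideal.mem_span_singleton_self a))))
  obtain ⟨i, hi, z, hz, hiz⟩ := Submodule.mem_sup.1 (htop.ge (Submodule.mem_top : (1 : A) ∈ ⊤))
  obtain ⟨r, rfl⟩ := Ideal.mem_span_singleton'.1 hz
  have hu : ¬ IsUnit (r * a) := fun hu => by
    obtain ⟨u, hu⟩ := hu
    refine ha ?_
    rcases isUnit_or_isNilpotent (k := k) h a with h1 | ⟨m, hm⟩
    · exact h1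
    · have hinj : ∀ m, a ^ m = 0 → (1 : A) = 0 := fun m => by
        induction m with
        | zero => simp
        | succ m ih =>
          intro hm
          refine ih ?_
          have : (↑u⁻¹ * r) * a ^ (m + 1) = 0 := by rw [hm, mul_zero]
          rwa [pow_succ', ← mul_assoc, mul_assoc _ r a, ← hu, Units.inv_mul, _root_.one_mul] at this
      have := subsingleton_of_zero_eq_one (hinj m hm).symm
      exact isUnit_of_subsingleton a
  rcases isUnit_or_isUnit_of_add (k := k) h (a := r * a) (b := i) (by rw [add_comm, hiz]; exact isUnit_one) with h1 | h1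
  · exact hu h1
  · exact hI.1 (Ideal.eq_top_of_isUnit_mem _ hi h1)

end ring

variable {C : Type u} [Category.{v} C] [Abelian C]

/-- An indecomposable object. -/
def Indec (X : C) : Prop := ¬ IsZero X ∧ ∀ A B : C, Nonempty (X ≅ A ⊞ B) → IsZero A ∨ IsZero B

theorem iso_of_split {X : C} {e : X ⟶ X} (he : e ≫ e = e) :
    ∃ (Y Z : C) (i : Y ⟶ X) (p : X ⟶ Y) (j : Z ⟶ X) (q : X ⟶ Z),
      i ≫ p = 𝟙 Y ∧ p ≫ i = e ∧ j ≫ q = 𝟙 Z ∧ q ≫ j = 𝟙 X - e ∧ Nonempty (X ≅ Y ⊞ Z) := by
  obtain ⟨Y, i, p, hip, hpi⟩ := IsIdempotentComplete.idempotents_split X e he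
  have he' : (𝟙 X - e) ≫ (𝟙 X - e) = 𝟙 X - e := by
    simp only [Preadditive.sub_comp, Preadditive.comp_sub, Category.id_comp, Category.comp_id, he]
    abel
  obtain ⟨Z, j, q, hjq, hqj⟩ := IsIdempotentComplete.idempotents_split X _ he'
  refine ⟨Y, Z, i, p, j, q, hip, hpi, hjq, hqj, ⟨⟨biprod.lift p q, biprod.desc i j, ?_, ?_⟩⟩⟩
  · rw [biprod.lift_desc, hpi, hqj]; abel
  · have hie : i ≫ e = i := by rw [← hpi, reassoc_of% hip]
    have hje : j ≫ e = 0 := by
      have : j ≫ (𝟙 X - e) = j := by rw [← hqj, reassoc_of% hjq]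
      rw [Preadditive.comp_sub, Category.comp_id, sub_eq_self] at this
      exact this
    have hiq : i ≫ q = 0 := by
      calc i ≫ q = i ≫ (q ≫ j) ≫ q := by rw [Category.assoc, hjq, Category.comp_id]
        _ = 0 := by rw [hqj, ← Category.assoc, Preadditive.comp_sub, Category.comp_id, hie, sub_self, zero_comp]
    have hjp : j ≫ p = 0 := by
      calc j ≫ p = j ≫ (p ≫ i) ≫ p := by rw [Category.assoc, hip, Category.comp_id]
        _ = 0 := by rw [hpi, ← Category.assoc, hje, zero_comp]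
    refine biprod.hom_ext' _ _ (biprod.hom_ext _ _ ?_ ?_) (biprod.hom_ext _ _ ?_ ?_) <;>
      simp [hip, hjq, hiq, hjp]

theorem idem_end {X : C} (hX : Indec X) (e : End X) (he : IsIdempotentElem e) : e = 0 ∨ e = 1 := by
  obtain ⟨Y, Z, i, p, j, q, hip, hpi, hjq, hqj, hiso⟩ := iso_of_split (show e ≫ e = e from he)
  rcases hX.2 Y Z hiso with h | h
  · left; show e = (0 : X ⟶ X); rw [← hpi, h.eq_of_tgt p 0, zero_comp]
  · right; show e = 𝟙 X
    rw [h.eq_of_tgt q 0, zero_comp, eq_comm, sub_eq_zero] at hqj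
    exact hqj.symm

theorem isIso_of_retract {X Y : C} (hY : Indec Y) (hX : ¬ IsZero X) (i : X ⟶ Y) (p : Y ⟶ X) (h : i ≫ p = 𝟙 X) :
    IsIso i := by
  rcases idem_end hY (p ≫ i) (show (p ≫ i) ≫ p ≫ i = p ≫ i by rw [Category.assoc, reassoc_of% h]) with h1 | h1
  · refine (hX ((IsZero.iff_id_eq_zero X).2 ?_)).elim
    calc 𝟙 X = i ≫ (p ≫ i) ≫ p := by rw [Category.assoc, reassoc_of% h, h]
      _ = 0 := by rw [show p ≫ i = (0 : Y ⟶ Y) from h1, zero_comp, comp_zero]
  · exact ⟨p, h, h1⟩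

variable {k : Type w} [Field k] [Linear k C]

include k in
theorem isIso_or_isIso_of_add {X : C} (hX : Indec X) [Module.Finite k (X ⟶ X)] {f g : X ⟶ X} (h : IsIso (f + g)) :
    IsIso f ∨ IsIso g := by
  haveI : Module.Finite k (End X) := ‹Module.Finite k (X ⟶ X)›
  have := isUnit_or_isUnit_of_add (k := k) (idem_end hX) (a := (f : End X)) (b := g) ((isUnit_iff_isIso _).2 h)
  exact this.imp (isUnit_iff_isIso _).1 (isUnit_iff_isIso _).1

include k in
theorem exists_isIso_of_sum {X : C} (hX : Indec X) [Module.Finite k (X ⟶ X)] {ι : Type*} (s : Finset ι)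
    (f : ι → (X ⟶ X)) (h : IsIso (∑ i ∈ s, f i)) : ∃ i ∈ s, IsIso (f i) := by
  classical
  induction s using Finset.induction with
  | empty =>
    rw [Finset.sum_empty] at h
    refine (hX.1 ((IsZero.iff_id_eq_zero X).2 ?_)).elim
    rw [← IsIso.hom_inv_id (0 : X ⟶ X), zero_comp]
  | insert a s ha ih =>
    rw [Finset.sum_insert ha] at h
    rcases isIso_or_isIso_of_add (k := k) hX h with h1 | h1
    · exact ⟨a, Finset.mem_insert_self a s, h1⟩
    · obtain ⟨i, hi, h2⟩ := ih h1
      exact ⟨i, Finset.mem_insert_of_mem hi, h2⟩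

include k in
/-- An indecomposable summand with local endomorphism ring can be cancelled. -/
theorem nonempty_iso_of_biprod {X A B : C} (hX : Indec X) [Module.Finite k (X ⟶ X)] (f : X ⊞ A ≅ X ⊞ B) :
    Nonempty (A ≅ B) := by
  let f11 := biprod.inl ≫ f.hom ≫ biprod.fst
  let f12 := biprod.inl ≫ f.hom ≫ biprod.snd
  let g11 := biprod.inl ≫ f.inv ≫ biprod.fst
  let g21 := biprod.inr ≫ f.inv ≫ biprod.fst
  have h1 : f11 ≫ g11 + f12 ≫ g21 = 𝟙 X := by
    calc f11 ≫ g11 + f12 ≫ g21 = biprod.inl ≫ f.hom ≫ (biprod.fst ≫ biprod.inl + biprod.snd ≫ biprod.inr) ≫ f.inv ≫ biprod.fst := by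
          simp only [f11, f12, g11, g21, Preadditive.add_comp, Preadditive.comp_add, Category.assoc]
      _ = 𝟙 X := by rw [biprod.total, Category.id_comp, f.hom_inv_id_assoc, biprod.inl_fst]
  by_cases hf : IsIso f11
  · exact ⟨Biprod.isoElim f⟩
  haveI : Module.Finite k (End X) := ‹Module.Finite k (X ⟶ X)›
  let F : End X := f11
  have hn : IsNilpotent F :=
    (isUnit_or_isNilpotent (k := k) (idem_end hX) (f11 : End X)).resolve_left (fun h => hf ((isUnit_iff_isIso _).1 h))
  rcases isIso_or_isIso_of_add (k := k) hX (f := f11 ≫ g11) (g := f12 ≫ g21) (by rw [h1]; infer_instance) with hg | hg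
  · refine (hf ?_).elim
    haveI := hg
    exact isIso_of_retract hX hX.1 f11 (g11 ≫ inv (f11 ≫ g11)) (by rw [← Category.assoc, IsIso.hom_inv_id])
  haveI := hg
  let s : B ⟶ X := g21 ≫ inv (f12 ≫ g21)
  have hs : f12 ≫ s = 𝟙 X := by rw [← Category.assoc, IsIso.hom_inv_id]
  let σ : X ⊞ B ≅ X ⊞ B :=
    { hom := biprod.desc biprod.inl (s ≫ biprod.inl + biprod.inr)
      inv := biprod.desc biprod.inl (-(s ≫ biprod.inl) + biprod.inr)
      hom_inv_id := by refine biprod.hom_ext' _ _ ?_ ?_ <;> simp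
      inv_hom_id := by refine biprod.hom_ext' _ _ ?_ ?_ <;> simp }
  have h2 : biprod.inl ≫ (f ≪≫ σ).hom ≫ biprod.fst = f11 + 𝟙 X := by
    calc biprod.inl ≫ (f ≪≫ σ).hom ≫ biprod.fst
        = biprod.inl ≫ f.hom ≫ (biprod.fst + biprod.snd ≫ s) := by
          rw [Iso.trans_hom, Category.assoc]
          congr 2
          refine biprod.hom_ext' _ _ ?_ ?_ <;> simp [σ]
      _ = _ := by rw [Preadditive.comp_add, Preadditive.comp_add, ← hs]; simp [f11, f12]
  haveI : IsIso (biprod.inl ≫ (f ≪≫ σ).hom ≫ biprod.fst) := by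
    rw [h2]; exact (isUnit_iff_isIso _).1 (hn.isUnit_add_one)
  exact ⟨Biprod.isoElim (f ≪≫ σ)⟩

end KSMod
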