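import Groth.Agent.KSModLib.Alg

/-! Decompositions into indecomposables. -/

set_option autoImplicit false
universe w v u

noncomputable section

open CategoryTheory CategoryTheory.Limits

namespace KSMod

attribute [local instance] Abelian.hasFiniteBiproducts

variable {C : Type u} [Category.{v} C] [Abelian C]

theorem isZero_of_isEmpty {J : Type} [IsEmpty J] [Fintype J] (F : J → C) : IsZero (⨁ F) :=
  (IsZero.iff_id_eq_zero _).2 (biproduct.hom_ext _ _ fun j => isEmptyElim j)

/-- Split one summand off a finite biproduct. -/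
def splitOff {n : ℕ} (F : Fin (n + 1) → C) (i : Fin (n + 1)) : ⨁ F ≅ F i ⊞ ⨁ (F ∘ i.succAbove) where
  hom := biprod.lift (biproduct.π F i) (biproduct.lift fun l => biproduct.π F (i.succAbove l))
  inv := biprod.desc (biproduct.ι F i) (biproduct.desc fun l => biproduct.ι F (i.succAbove l))
  hom_inv_id := by
    rw [biprod.lift_desc, biproduct.lift_desc, ← biproduct.total (f := F), Fin.sum_univ_succAbove _ i]
  inv_hom_id := by
    refine biprod.hom_ext' _ _ (biprod.hom_ext _ _ ?_ (biproduct.hom_ext _ _ fun l => ?_))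
      (biproduct.hom_ext' _ _ fun m => biprod.hom_ext _ _ ?_ (biproduct.hom_ext _ _ fun l => ?_))
    · simp
    · simp [biproduct.ι_π_ne _ (Fin.succAbove_ne i l).symm]
    · simp [biproduct.ι_π_ne _ (Fin.succAbove_ne i m)]
    · by_cases h : m = l
      · subst h; simp
      · simp [biproduct.ι_π_ne _ h, biproduct.ι_π_ne _ (fun e => h (Fin.succAbove_right_injective e))]

theorem not_isZero_of_iso {X Y : C} (e : X ≅ Y) (h : ¬ IsZero X) : ¬ IsZero Y := fun hY => h (hY.of_iso e)

theorem indec_of_iso {X Y : C} (e : X ≅ Y) (h : Indec X) : Indec Y :=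
  ⟨not_isZero_of_iso e h.1, fun A B ⟨f⟩ => h.2 A B ⟨e ≪≫ f⟩⟩

variable {k : Type w} [Field k] [Linear k C]

variable (k) in
/-- Conjugation of endomorphisms into a biproduct. -/
def endProd {X A B : C} (e : X ≅ A ⊞ B) : ((A ⟶ A) × (B ⟶ B)) →ₗ[k] (X ⟶ X) where
  toFun f := e.hom ≫ biprod.map f.1 f.2 ≫ e.inv
  map_add' f g := by
    rw [← Preadditive.comp_add, ← Preadditive.add_comp]
    congr 2
    refine biprod.hom_ext' _ _ ?_ ?_ <;> simp
  map_smul' c f := by
    simp only [RingHom.id_apply, Prod.smul_fst, Prod.smul_snd]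
    rw [← Linear.comp_smul, ← Linear.smul_comp]
    congr 2
    refine biprod.hom_ext' _ _ ?_ ?_ <;> simp

theorem endProd_injective {X A B : C} (e : X ≅ A ⊞ B) : Function.Injective (endProd k e) := fun f g h => by
  have h' : biprod.map f.1 f.2 = biprod.map g.1 g.2 := by
    simpa [endProd] using congrArg (fun z => e.inv ≫ z ≫ e.hom) h
  refine Prod.ext ?_ ?_
  · simpa using congrArg (fun z => biprod.inl ≫ z ≫ biprod.fst) h'
  · simpa using congrArg (fun z => biprod.inr ≫ z ≫ biprod.snd) h'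

include k in
theorem finite_end_of_biprod {X A B : C} (e : X ≅ A ⊞ B) [Module.Finite k (X ⟶ X)] :
    Module.Finite k (A ⟶ A) ∧ Module.Finite k (B ⟶ B) := by
  haveI := Module.Finite.of_injective (endProd k e) (endProd_injective e)
  exact ⟨Module.Finite.of_surjective (LinearMap.fst k (A ⟶ A) (B ⟶ B)) LinearMap.fst_surjective,
    Module.Finite.of_surjective (LinearMap.snd k (A ⟶ A) (B ⟶ B)) LinearMap.snd_surjective⟩

include k in
theorem finrank_end_lt {X A B : C} (e : X ≅ A ⊞ B) [Module.Finite k (X ⟶ X)] (hB : ¬ IsZero B) :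
    Module.finrank k (A ⟶ A) < Module.finrank k (X ⟶ X) := by
  obtain ⟨hA, hB'⟩ := finite_end_of_biprod (k := k) e
  have h := LinearMap.finrank_le_finrank_of_injective (endProd_injective (k := k) e)
  rw [Module.finrank_prod] at h
  have : 0 < Module.finrank k (B ⟶ B) :=
    Module.finrank_pos_iff_exists_ne_zero.2 ⟨𝟙 B, fun h0 => hB ((IsZero.iff_id_eq_zero B).2 h0)⟩
  omega

include k in
/-- Every object with finite dimensional endomorphisms decomposes into indecomposables. -/
theorem exists_decomp (X : C) [Module.Finite k (X ⟶ X)] :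
    ∃ (n : ℕ) (Fs : Fin n → C), (∀ i, Indec (Fs i)) ∧ (∀ i, Module.Finite k (Fs i ⟶ Fs i)) ∧ Nonempty (X ≅ ⨁ Fs) := by
  induction hd : Module.finrank k (X ⟶ X) using Nat.strong_induction_on generalizing X with
  | _ d ih =>
    by_cases hz : IsZero X
    · exact ⟨0, Fin.elim0, fun i => i.elim0, fun i => i.elim0, ⟨hz.iso (isZero_of_isEmpty _)⟩⟩
    by_cases hi : ∀ A B : C, Nonempty (X ≅ A ⊞ B) → IsZero A ∨ IsZero B
    · refine ⟨1, fun _ => X, fun _ => ⟨hz, hi⟩, fun _ => inferInstance, ⟨(biproductUniqueIso fun _ : Fin 1 => X).symm⟩⟩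
    simp only [not_forall, not_or] at hi
    obtain ⟨A, B, ⟨e⟩, hA, hB⟩ := hi
    obtain ⟨_, _⟩ := finite_end_of_biprod (k := k) e
    obtain ⟨n, Fs, hF, hFf, ⟨eA⟩⟩ := ih _ (hd ▸ finrank_end_lt e hB) A rfl
    obtain ⟨m, Gs, hG, hGf, ⟨eB⟩⟩ := ih _ (hd ▸ finrank_end_lt (e ≪≫ biprod.braiding A B) hA) B rfl
    refine ⟨n + m, Fin.append Fs Gs, fun i => ?_, fun i => ?_, ⟨e ≪≫ biprod.mapIso eA eB ≪≫ ?_⟩⟩
    · exact Fin.addCases (fun l => by rw [Fin.append_left]; exact hF l) (fun l => by rw [Fin.append_right]; exact hG l) i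
    · exact Fin.addCases (fun l => by rw [Fin.append_left]; exact hFf l) (fun l => by rw [Fin.append_right]; exact hGf l) i
    refine
      { hom := biprod.desc
          (biproduct.desc fun l => eqToHom (Fin.append_left Fs Gs l).symm ≫ biproduct.ι _ (Fin.castAdd m l))
          (biproduct.desc fun l => eqToHom (Fin.append_right Fs Gs l).symm ≫ biproduct.ι _ (Fin.natAdd n l))
        inv := biprod.lift
          (biproduct.lift fun l => biproduct.π _ (Fin.castAdd m l) ≫ eqToHom (Fin.append_left Fs Gs l))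
          (biproduct.lift fun l => biproduct.π _ (Fin.natAdd n l) ≫ eqToHom (Fin.append_right Fs Gs l))
        hom_inv_id := ?_
        inv_hom_id := ?_ }
    · refine biprod.hom_ext' _ _ (biproduct.hom_ext' _ _ fun a => biprod.hom_ext _ _ (biproduct.hom_ext _ _ fun b => ?_) (biproduct.hom_ext _ _ fun b => ?_))
        (biproduct.hom_ext' _ _ fun a => biprod.hom_ext _ _ (biproduct.hom_ext _ _ fun b => ?_) (biproduct.hom_ext _ _ fun b => ?_))
      · by_cases h : a = b
        · subst h; simp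
        · simp [biproduct.ι_π_ne_assoc _ (fun e => h (Fin.castAdd_injective _ _ e)), biproduct.ι_π_ne _ h]
      · simp [biproduct.ι_π_ne_assoc _ (show Fin.castAdd m a ≠ Fin.natAdd n b from fun e => by simp [Fin.ext_iff] at e; omega)]
      · simp [biproduct.ι_π_ne_assoc _ (show Fin.natAdd n a ≠ Fin.castAdd m b from fun e => by simp [Fin.ext_iff] at e; omega)]
      · by_cases h : a = b
        · subst h; simp
        · simp [biproduct.ι_π_ne_assoc _ (fun e => h (Fin.natAdd_injective _ _ e)), biproduct.ι_π_ne _ h]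
    · rw [biprod.lift_desc, biproduct.lift_desc, biproduct.lift_desc, ← biproduct.total (f := Fin.append Fs Gs),
        Fin.sum_univ_add]
      simp

include k in
/-- The indecomposable summands are unique. -/
theorem unique_decomp : ∀ (n m : ℕ) (Fs : Fin n → C) (Gs : Fin m → C), (∀ i, Indec (Fs i)) → (∀ j, Indec (Gs j)) →
    (∀ i, Module.Finite k (Fs i ⟶ Fs i)) → (⨁ Fs ≅ ⨁ Gs) → ∃ e : Fin n ≃ Fin m, ∀ i, Nonempty (Fs i ≅ Gs (e i)) := by
  intro n
  induction n with
  | zero =>
    intro m Fs Gs _ hG _ f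
    rcases m with _ | m
    · exact ⟨Equiv.refl _, fun i => i.elim0⟩
    refine ((hG 0).1 ((IsZero.iff_id_eq_zero _).2 ?_)).elim
    rw [← biproduct.ι_π_self Gs 0, ((isZero_of_isEmpty Fs).of_iso f.symm).eq_of_tgt (biproduct.ι Gs 0) 0, zero_comp]
  | succ n ih =>
    intro m Fs Gs hF hG hFf f
    haveI := hFf 0
    have hsum : (∑ j, (biproduct.ι Fs 0 ≫ f.hom ≫ biproduct.π Gs j) ≫ (biproduct.ι Gs j ≫ f.inv ≫ biproduct.π Fs 0)) = 𝟙 (Fs 0) := by
      calc _ = biproduct.ι Fs 0 ≫ f.hom ≫ (∑ j, biproduct.π Gs j ≫ biproduct.ι Gs j) ≫ f.inv ≫ biproduct.π Fs 0 := by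
            simp only [Preadditive.sum_comp, Preadditive.comp_sum, Category.assoc]
        _ = 𝟙 (Fs 0) := by rw [biproduct.total, Category.id_comp, f.hom_inv_id_assoc, biproduct.ι_π_self]
    obtain ⟨j, -, hj⟩ := exists_isIso_of_sum (k := k) (hF 0) Finset.univ
      (fun j => (biproduct.ι Fs 0 ≫ f.hom ≫ biproduct.π Gs j) ≫ (biproduct.ι Gs j ≫ f.inv ≫ biproduct.π Fs 0))
      (by rw [hsum]; infer_instance)
    haveI := hj
    have ha : IsIso (biproduct.ι Fs 0 ≫ f.hom ≫ biproduct.π Gs j) :=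
      isIso_of_retract (hG j) (hF 0).1 _ _ ((Category.assoc _ _ _).symm.trans (IsIso.hom_inv_id
        ((biproduct.ι Fs 0 ≫ f.hom ≫ biproduct.π Gs j) ≫ (biproduct.ι Gs j ≫ f.inv ≫ biproduct.π Fs 0))))
    rcases m with _ | m
    · exact j.elim0
    let g := (splitOff Fs 0).symm ≪≫ f ≪≫ splitOff Gs j
    have hg : biprod.inl ≫ g.hom ≫ biprod.fst = biproduct.ι Fs 0 ≫ f.hom ≫ biproduct.π Gs j := by
      simp [g, splitOff]
    haveI : IsIso (biprod.inl ≫ g.hom ≫ biprod.fst) := by rw [hg]; exact ha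
    obtain ⟨e, he⟩ := ih m (Fs ∘ (0 : Fin (n+1)).succAbove) (Gs ∘ j.succAbove) (fun i => hF _) (fun i => hG _)
      (fun i => hFf _) (Biprod.isoElim g)
    refine ⟨(finSuccEquiv' 0).trans ((Equiv.optionCongr e).trans (finSuccEquiv' j).symm), fun i => ?_⟩
    rcases Fin.eq_self_or_eq_succAbove 0 i with h | ⟨l, h⟩
    · subst h
      have e0 : ((finSuccEquiv' (0 : Fin (n+1))).trans ((Equiv.optionCongr e).trans (finSuccEquiv' j).symm)) 0 = j := by
        simp
      rw [e0]
      exact ⟨asIso (biproduct.ι Fs 0 ≫ f.hom ≫ biproduct.π Gs j)⟩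
    · subst h
      have e1 : ((finSuccEquiv' (0 : Fin (n+1))).trans ((Equiv.optionCongr e).trans (finSuccEquiv' j).symm))
          ((0 : Fin (n+1)).succAbove l) = j.succAbove (e l) := by
        simp only [Equiv.trans_apply, finSuccEquiv'_succAbove, Equiv.optionCongr_apply, Option.map_some, finSuccEquiv'_symm_some]
      rw [e1]
      exact he l

end KSMod
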